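import Cfsg.Agent.Spec.SLTwo
import Cfsg.Agent.Linear.Orders

/-!
Class sizes and products of classes in `PSL(2, F)`.
-/

set_option autoImplicit false
set_option linter.style.haveILetI false

open Matrix
open scoped MatrixGroups

namespace Cfsg.Agent.Spec.Two

variable {F : Type*} [Field F]

local notation "M₂" => Matrix (Fin 2) (Fin 2) F
local notation "L₂" => Matrix.ProjectiveSpecialLinearGroup (Fin 2) F

/-- The projection onto `PSL(2, F)`. -/
abbrev π : SL(2, F) →* L₂ := QuotientGroup.mk' (Subgroup.center SL(2, F))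

theorem π_surjective : Function.Surjective (π (F := F)) := QuotientGroup.mk'_surjective _

theorem π_eq_iff {g h : SL(2, F)} :
    π g = π h ↔ ∃ c : F, c ^ 2 = 1 ∧ (h : M₂) = c • (g : M₂) := by
  rw [QuotientGroup.mk'_apply, QuotientGroup.mk'_apply, QuotientGroup.eq,
    Matrix.SpecialLinearGroup.mem_center_iff]
  constructor
  · rintro ⟨c, hc, he⟩
    refine ⟨c, by simpa using hc, ?_⟩
    calc (h : M₂) = ((g * (g⁻¹ * h) : SL(2, F)) : M₂) := by rw [mul_inv_cancel_left]
      _ = (g : M₂) * Matrix.scalar (Fin 2) c := by rw [he]; rfl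
      _ = c • (g : M₂) := by
        rw [Matrix.scalar_apply, ← Matrix.smul_one_eq_diagonal, Matrix.mul_smul, mul_one]
  · rintro ⟨c, hc, he⟩
    refine ⟨c, by simpa using hc, ?_⟩
    show Matrix.scalar (Fin 2) c = ((g⁻¹ : SL(2, F)) : M₂) * (h : M₂)
    rw [he, Matrix.mul_smul, ← Matrix.SpecialLinearGroup.coe_mul, inv_mul_cancel,
      Matrix.SpecialLinearGroup.coe_one, Matrix.scalar_apply, ← Matrix.smul_one_eq_diagonal]

theorem π_eq_one_iff {g : SL(2, F)} : π g = 1 ↔ ∃ z : F, (g : M₂) = z • (1 : M₂) := by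
  rw [← map_one π, eq_comm, π_eq_iff]
  constructor
  · rintro ⟨c, -, h⟩; exact ⟨c, by simpa using h⟩
  · rintro ⟨z, h⟩
    refine ⟨z, ?_, by simpa using h⟩
    have := g.2
    rw [h, Matrix.det_smul, Fintype.card_fin, Matrix.det_one, mul_one] at this
    exact this

theorem ns_of_π_ne_one {g : SL(2, F)} (h : π g ≠ 1) : NS (g : M₂) :=
  fun z hz => h (π_eq_one_iff.2 ⟨z, hz⟩)

theorem conj_trace (h g : SL(2, F)) : ((h * g * h⁻¹ : SL(2, F)) : M₂).trace = (g : M₂).trace := by
  show ((h : M₂) * (g : M₂) * ((h⁻¹ : SL(2, F)) : M₂)).trace = _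
  rw [Matrix.trace_mul_cycle, ← Matrix.SpecialLinearGroup.coe_mul h⁻¹ h, inv_mul_cancel,
    Matrix.SpecialLinearGroup.coe_one, Matrix.one_mul]

theorem trace_sq_of_isConj {g h : SL(2, F)} (hc : IsConj (π g) (π h)) :
    (h : M₂).trace ^ 2 = (g : M₂).trace ^ 2 := by
  obtain ⟨u, hu⟩ := isConj_iff.1 hc
  obtain ⟨v, rfl⟩ := π_surjective u
  rw [← map_inv, ← map_mul, ← map_mul, π_eq_iff] at hu
  obtain ⟨c, hc2, he⟩ := hu
  rw [he, Matrix.trace_smul, conj_trace, smul_eq_mul, mul_pow, hc2, one_mul]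

theorem comp_ns (t : F) : NS (comp t) := fun z h => by
  have := congrFun (congrFun h 1) 0
  simp [comp] at this

/-- In characteristic two only `1` squares to `1`. -/
theorem eq_one_of_sq {c : F} (h2 : (2 : F) = 0) (hc : c ^ 2 = 1) : c = 1 := by
  have h' : (c - 1) ^ 2 = 0 := by linear_combination hc + (1 - c) * h2
  exact sub_eq_zero.1 (pow_eq_zero_iff two_ne_zero |>.1 h')

theorem pred_sq_one (c : F) (hc : c ^ 2 = 1) : c = 1 ∨ c = -1 := sq_eq_one_iff.1 hc

theorem mem_comap_iff {g h : SL(2, F)} :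
    h ∈ (Subgroup.centralizer ({π g} : Set L₂)).comap π ↔
      ∃ c : F, c ^ 2 = 1 ∧ (h : M₂) * (g : M₂) = c • ((g : M₂) * (h : M₂)) := by
  rw [Subgroup.mem_comap, Subgroup.mem_centralizer_singleton_iff, ← map_mul, ← map_mul, eq_comm,
    π_eq_iff]
  rfl

theorem comap_eq_of (g : SL(2, F)) (hcond : (g : M₂).trace ≠ 0 ∨ (2 : F) = 0) :
    (Subgroup.centralizer ({π g} : Set L₂)).comap π = Subgroup.centralizer ({g} : Set SL(2, F)) := by
  ext h
  rw [mem_comap_iff, Subgroup.mem_centralizer_singleton_iff]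
  constructor
  · rintro ⟨c, hc, he⟩
    suffices c = 1 by
      subst this
      rw [one_smul] at he
      exact Subtype.ext he
    rcases hcond with ht | h2
    · have h1 : ((h * g * h⁻¹ : SL(2, F)) : M₂) = c • (g : M₂) := by
        rw [Matrix.SpecialLinearGroup.coe_mul, Matrix.SpecialLinearGroup.coe_mul, he,
          Matrix.smul_mul, Matrix.mul_assoc, ← Matrix.SpecialLinearGroup.coe_mul, mul_inv_cancel,
          Matrix.SpecialLinearGroup.coe_one, Matrix.mul_one]
      have h2 := congrArg Matrix.trace h1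
      rw [conj_trace, Matrix.trace_smul, smul_eq_mul] at h2
      exact mul_right_cancel₀ ht (by rw [one_mul, ← h2])
    · exact eq_one_of_sq h2 hc
  · intro he
    exact ⟨1, one_pow 2, by rw [one_smul]; exact congrArg Subtype.val he⟩

variable [Fintype F]

theorem relIndex_comap_eq_two (g : SL(2, F)) (ht : (g : M₂).trace = 0) (h2 : (2 : F) ≠ 0) :
    (Subgroup.centralizer ({g} : Set SL(2, F))).relIndex
      ((Subgroup.centralizer ({π g} : Set L₂)).comap π) = 2 := by
  classical
  have hsq : (g : M₂).trace ^ 2 ≠ 4 := by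
    rw [ht]
    intro h
    exact h2 (pow_eq_zero_iff two_ne_zero |>.1 (by linear_combination -h : (2 : F) ^ 2 = 0))
  let g' : SL(2, F) := mk (-(g : M₂)) (by rw [Matrix.det_neg]; simp)
  obtain ⟨a, ha⟩ := exists_conj g g' (by simp [g', ht]) hsq
  have ha' : (a : M₂) * (g : M₂) = -((g : M₂) * (a : M₂)) := by
    have := congrArg (fun x : SL(2, F) => (x : M₂)) (mul_inv_eq_iff_eq_mul.1 ha)
    rw [← neg_mul]
    exact this
  rw [Subgroup.relIndex, Subgroup.index_eq_two_iff]
  refine ⟨⟨a, mem_comap_iff.2 ⟨-1, by ring, by rw [ha', neg_one_smul]⟩⟩, fun b => ?_⟩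
  simp only [Subgroup.mem_subgroupOf, Subgroup.coe_mul, Subgroup.mem_centralizer_singleton_iff]
  obtain ⟨c, hc, hb⟩ := mem_comap_iff.1 b.2
  have hg0 : (g : M₂) ≠ 0 := fun h => by
    have := g.2
    rw [h, Matrix.det_zero] at this
    exact zero_ne_one this
  have hne : ∀ x : SL(2, F), (g : M₂) * (x : M₂) ≠ -((g : M₂) * (x : M₂)) := by
    intro x h
    have h3 : (2 : F) • ((g : M₂) * (x : M₂)) = 0 := by rw [two_smul]; exact eq_neg_iff_add_eq_zero.1 h
    have h4 := (smul_eq_zero.1 h3).resolve_left h2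
    have h5 := congrArg Matrix.det h4
    rw [Matrix.det_mul, g.2, x.2, mul_one, Matrix.det_zero] at h5
    exact one_ne_zero h5
  have hval : ∀ x : SL(2, F), x * g = g * x ↔ (x : M₂) * (g : M₂) = (g : M₂) * (x : M₂) :=
    fun x => ⟨fun h => congrArg Subtype.val h, fun h => Subtype.ext h⟩
  rw [hval, hval, Matrix.SpecialLinearGroup.coe_mul, Matrix.mul_assoc, ha', Matrix.mul_neg,
    ← Matrix.mul_assoc, ← Matrix.mul_assoc (g : M₂)]
  rcases pred_sq_one c hc with rfl | rfl
  · rw [one_smul] at hb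
    refine Or.inr ⟨hb, fun h => ?_⟩
    rw [hb] at h
    apply hne ((b : SL(2, F)) * a)
    rw [Matrix.SpecialLinearGroup.coe_mul, ← Matrix.mul_assoc]
    exact h.symm
  · rw [neg_one_smul] at hb
    refine Or.inl ⟨by rw [hb, Matrix.neg_mul, neg_neg], fun h => ?_⟩
    exact hne (b : SL(2, F)) (h.symm.trans hb)

open scoped Classical in
/-- The class size in `PSL(2, F)` times the size of the conic. -/
theorem index_mul (g : SL(2, F)) (hns : NS (g : M₂)) :
    (Subgroup.centralizer ({π g} : Set L₂)).index *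
        ((if (g : M₂).trace ≠ 0 ∨ (2 : F) = 0 then 1 else 2) *
          Nat.card {v : F × F // qf (g : M₂).trace v = 1}) =
      Fintype.card F * (Fintype.card F - 1) * (Fintype.card F + 1) := by
  classical
  rw [← Linear.card_SL_two, ← card_centralizer_eq g hns,
    ← Subgroup.index_comap_of_surjective _ π_surjective,
    ← (Subgroup.centralizer ({g} : Set SL(2, F))).index_mul_card, ← mul_assoc]
  congr 1
  split_ifs with h
  · rw [comap_eq_of g h, mul_one]
  · push Not at h
    have hle : Subgroup.centralizer ({g} : Set SL(2, F)) ≤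
        (Subgroup.centralizer ({π g} : Set L₂)).comap π := by
      intro x hx
      exact mem_comap_iff.2 ⟨1, one_pow 2, by
        rw [one_smul]
        exact congrArg (fun y : SL(2, F) => (y : M₂)) (Subgroup.mem_centralizer_singleton_iff.1 hx)⟩
    rw [← Subgroup.relIndex_mul_index hle, relIndex_comap_eq_two g h.1 h.2, mul_comm]

theorem two_eq_zero_iff : (2 : F) = 0 ↔ 2 ∣ Fintype.card F := by
  obtain ⟨p, hp⟩ := CharP.exists F
  haveI := hp
  obtain ⟨e, hpp, he⟩ := FiniteField.card F p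
  constructor
  · intro h
    have h' : ((2 : ℕ) : F) = 0 := by exact_mod_cast h
    obtain rfl := (Nat.prime_dvd_prime_iff_eq hpp Nat.prime_two).1 ((CharP.cast_eq_zero_iff F p 2).1 h')
    exact he ▸ dvd_pow_self 2 e.ne_zero
  · intro h
    obtain rfl := (Nat.prime_dvd_prime_iff_eq Nat.prime_two hpp).1
      (Nat.prime_two.dvd_of_dvd_pow (he ▸ h))
    exact_mod_cast CharP.cast_eq_zero F 2

open scoped Classical in
theorem card_sq_one : Nat.card {s : F // s ^ 2 = 1} = if (2 : F) = 0 then 1 else 2 := by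
  classical
  split_ifs with h2
  · haveI : Subsingleton {s : F // s ^ 2 = 1} :=
      ⟨fun a b => Subtype.ext ((eq_one_of_sq h2 a.2).trans (eq_one_of_sq h2 b.2).symm)⟩
    haveI : Nonempty {s : F // s ^ 2 = 1} := ⟨⟨1, one_pow 2⟩⟩
    exact Nat.card_unique
  · have : ∀ s : F, s ^ 2 = 1 ↔ s ∈ ({1, -1} : Finset F) := fun s => by
      simp [sq_eq_one_iff]
    rw [Nat.card_congr (Equiv.subtypeEquivRight this), Nat.card_eq_finsetCard, Finset.card_pair]
    intro h
    exact h2 (by linear_combination h)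

/-- A trace giving a nonsplit element. -/
theorem exists_nonsplit_trace (hq : 4 ≤ Fintype.card F) (hq5 : (2 : F) ≠ 0 → 7 ≤ Fintype.card F) :
    ∃ t : F, t ≠ 0 ∧ ∀ r : F, r ^ 2 - t * r + 1 ≠ 0 := by
  classical
  by_contra hno
  push Not at hno
  let S : Finset F := Finset.univ.filter fun t => t ≠ 0 ∧ t ^ 2 ≠ 4
  let R : Finset F := Finset.univ.filter fun r => r ≠ 0
  have hfib : ∀ t ∈ S, 2 ≤ (R.filter fun r => r + r⁻¹ = t).card := by
    intro t ht
    simp only [S, Finset.mem_filter] at ht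
    obtain ⟨r, hr⟩ := hno t ht.2.1
    have hr0 : r ≠ 0 := by rintro rfl; simp at hr
    have hrt : r + r⁻¹ = t := by field_simp; linear_combination hr
    have hne : r ≠ r⁻¹ := by
      intro h
      apply ht.2.2
      rw [← hrt, ← h]
      have : r * r = 1 := by
        conv_lhs => arg 2; rw [h]
        exact mul_inv_cancel₀ hr0
      linear_combination 4 * this
    refine le_trans (le_of_eq (Finset.card_pair hne).symm) (Finset.card_le_card ?_)
    intro x hx
    simp only [Finset.mem_insert, Finset.mem_singleton] at hx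
    rcases hx with rfl | rfl
    · simp [R, hr0, hrt]
    · simp [R, hr0, add_comm, hrt]
  have h1 : 2 * S.card ≤ R.card := by
    calc 2 * S.card = ∑ _t ∈ S, 2 := by rw [Finset.sum_const, smul_eq_mul, mul_comm]
      _ ≤ ∑ t ∈ S, (R.filter fun r => r + r⁻¹ = t).card := Finset.sum_le_sum hfib
      _ ≤ R.card := by
        exact le_of_eq_of_le (Finset.sum_card_fiberwise_eq_card_filter R S (fun r => r + r⁻¹))
          (Finset.card_filter_le _ _)
  have hR : R.card + 1 = Fintype.card F := by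
    have : R = Finset.univ.erase 0 := by ext x; simp [R]
    rw [this, Finset.card_erase_of_mem (Finset.mem_univ _), Finset.card_univ]
    omega
  have hS : (Finset.univ : Finset F) ⊆ S ∪ {0, 2, -2} := by
    intro t _
    simp only [S, Finset.mem_union, Finset.mem_filter, Finset.mem_univ, true_and, Finset.mem_insert,
      Finset.mem_singleton]
    by_cases h0 : t = 0
    · exact Or.inr (Or.inl h0)
    by_cases h4 : t ^ 2 = 4
    · rcases mul_eq_zero.1 (show (t - 2) * (t + 2) = 0 by linear_combination h4) with h | h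
      · exact Or.inr (Or.inr (Or.inl (sub_eq_zero.1 h)))
      · exact Or.inr (Or.inr (Or.inr (eq_neg_of_add_eq_zero_left h)))
    · exact Or.inl ⟨h0, h4⟩
  have h3 := (Finset.card_le_card hS).trans (Finset.card_union_le _ _)
  rw [Finset.card_univ] at h3
  by_cases h2 : (2 : F) = 0
  · have : ({0, 2, -2} : Finset F).card ≤ 1 := by simp [h2]
    omega
  · have : ({0, 2, -2} : Finset F).card ≤ 3 := Finset.card_le_three
    have := hq5 h2
    omega

/-- A trace giving a split element. -/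
theorem exists_split_trace (hq : 4 ≤ Fintype.card F) (hq5 : (2 : F) ≠ 0 → 7 ≤ Fintype.card F) :
    ∃ t : F, t ≠ 0 ∧ t ^ 2 ≠ 4 ∧ ∃ r : F, r ^ 2 - t * r + 1 = 0 := by
  classical
  obtain ⟨g, hg⟩ := IsCyclic.exists_ofOrder_eq_natCard (α := Fˣ)
  rw [Nat.card_units, Nat.card_eq_fintype_card] at hg
  set r : F := (g : F)
  have hr0 : r ≠ 0 := g.ne_zero
  have hr2 : r ^ 2 ≠ 1 := by
    intro h
    have h' : g ^ 2 = 1 := Units.ext (by rw [Units.val_pow_eq_pow_val]; exact h)
    have := Nat.le_of_dvd two_pos (orderOf_dvd_of_pow_eq_one h')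
    omega
  refine ⟨r + r⁻¹, fun h => ?_, fun h => hr2 ?_, r, by field_simp; ring⟩
  · have h1 : r ^ 2 + 1 = 0 := by field_simp at h; linear_combination h
    by_cases h2 : (2 : F) = 0
    · exact hr2 (by linear_combination h1 - h2)
    · have h' : g ^ 4 = 1 := Units.ext (by
        rw [Units.val_pow_eq_pow_val]; show r ^ 4 = 1; linear_combination (r ^ 2 - 1) * h1)
      have := Nat.le_of_dvd (by norm_num) (orderOf_dvd_of_pow_eq_one h')
      have := hq5 h2
      omega
  · have h1 : (r ^ 2 - 1) ^ 2 = 0 := by field_simp at h; linear_combination h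
    exact sub_eq_zero.1 (pow_eq_zero_iff two_ne_zero |>.1 h1)

omit [Fintype F] in
theorem index_one : (Subgroup.centralizer ({(1 : L₂)} : Set L₂)).index = 1 := by
  rw [Subgroup.index_eq_one, Subgroup.eq_top_iff']
  intro x
  rw [Subgroup.mem_centralizer_singleton_iff, one_mul, mul_one]

/-- Products with prescribed traces: the conic. -/
theorem exists_conic (t s : F)
    (h : s ^ 2 ≠ 4 ∨ (s = 2 ∧ ∃ r : F, r ^ 2 - t * r + 1 = 0) ∨ (s = -2 ∧ (2 : F) ≠ 0 ∧ t ≠ 0)) :
    ∃ a c : F, a * (t - a) - c * (c + a * s - t) = 1 := by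
  rcases h with h | ⟨rfl, r, hr⟩ | ⟨rfl, h2, ht⟩
  · have hs : s + 2 ≠ 0 := fun h' => h (by linear_combination (s - 2) * h')
    set α := t / (s + 2) with hα
    have hα' : α * (s + 2) = t := by rw [hα, div_mul_cancel₀ _ hs]
    obtain ⟨v, hv⟩ := exists_qf_eq h (t * α - 1)
    refine ⟨v.1 + α, v.2 + α, ?_⟩
    simp only [qf] at hv
    linear_combination -hv - (v.1 + v.2 + α) * hα'
  · exact ⟨r, 0, by linear_combination -hr⟩
  · refine ⟨1 / (2 * t), 1 / (2 * t), ?_⟩
    field_simp
    ring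

/-- Every element of admissible trace is a product of two conjugates. -/
theorem exists_product (A g : SL(2, F)) (ht : (A : M₂).trace ^ 2 ≠ 4) (hg : NS (g : M₂))
    (h : (g : M₂).trace ^ 2 ≠ 4 ∨
      ((g : M₂).trace = 2 ∧ ∃ r : F, r ^ 2 - (A : M₂).trace * r + 1 = 0) ∨
      ((g : M₂).trace = -2 ∧ (2 : F) ≠ 0 ∧ (A : M₂).trace ≠ 0)) :
    ∃ u v : SL(2, F), g = (u * A * u⁻¹) * (v * A * v⁻¹) := by
  classical
  set t := (A : M₂).trace with htdef
  set s := (g : M₂).trace with hsdef
  obtain ⟨a, c, hac⟩ := exists_conic t s h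
  obtain ⟨P, hP, hgP⟩ := exists_companion g.2 hg
  rw [← hsdef] at hgP
  have hu : IsUnit P.det := Ne.isUnit hP
  have hP' := (Matrix.isUnit_iff_isUnit_det P).2 hu
  let A₀ : M₂ := !![a, c + a * s - t; c, t - a]
  let B₀ : M₂ := !![t - a, -(c + a * s - t); -c, a] * comp s
  let A₁ : SL(2, F) := mk (P * A₀ * P⁻¹) (by
    rw [Matrix.det_conj hP', Matrix.det_fin_two_of]; linear_combination hac)
  let B₁ : SL(2, F) := mk (P * B₀ * P⁻¹) (by
    rw [Matrix.det_conj hP', Matrix.det_mul, Matrix.det_fin_two_of, comp_det]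
    linear_combination hac)
  have htrA : (A₁ : M₂).trace = t := by
    show (P * A₀ * P⁻¹).trace = t
    rw [Matrix.trace_mul_cycle, Matrix.nonsing_inv_mul P hu, Matrix.one_mul, Matrix.trace_fin_two_of]
    ring
  have htrB : (B₁ : M₂).trace = t := by
    show (P * B₀ * P⁻¹).trace = t
    rw [Matrix.trace_mul_cycle, Matrix.nonsing_inv_mul P hu, Matrix.one_mul]
    simp [B₀, comp, Matrix.trace_fin_two]
    try ring
  obtain ⟨u, hu'⟩ := exists_conj A A₁ htrA.symm ht
  obtain ⟨v, hv'⟩ := exists_conj A B₁ htrB.symm ht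
  refine ⟨u, v, ?_⟩
  rw [hu', hv']
  apply Subtype.ext
  show (g : M₂) = (P * A₀ * P⁻¹) * (P * B₀ * P⁻¹)
  have hAB : A₀ * B₀ = comp s := by
    have : A₀ * !![t - a, -(c + a * s - t); -c, a] = 1 := by
      ext i j
      fin_cases i <;> fin_cases j <;> simp [A₀, Matrix.mul_apply, Fin.sum_univ_two] <;>
        (try ring) <;> linear_combination hac
    show A₀ * (!![t - a, -(c + a * s - t); -c, a] * comp s) = comp s
    rw [← Matrix.mul_assoc, this, Matrix.one_mul]
  calc (g : M₂) = (g : M₂) * P * P⁻¹ := by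
        rw [Matrix.mul_assoc, Matrix.mul_nonsing_inv P hu, Matrix.mul_one]
    _ = P * (A₀ * B₀) * P⁻¹ := by rw [hgP, hAB]
    _ = _ := by
      simp only [Matrix.mul_assoc]
      rw [← Matrix.mul_assoc P⁻¹ P, Matrix.nonsing_inv_mul P hu, Matrix.one_mul]

end Cfsg.Agent.Spec.Two
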