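import Cfsg.Agent.Spec.SLTwo
import Cfsg.Agent.Linear.Torus

/-!
The maximal tori of `SL(2, F)`, `F` of odd order, as centralisers, and their normalisers.
-/

set_option autoImplicit false
set_option linter.style.haveILetI false

open Matrix
open scoped MatrixGroups

namespace Cfsg.Agent.Spec.Two

variable {F : Type*} [Field F]

local notation "M₂" => Matrix (Fin 2) (Fin 2) F

theorem four_ne_zero' (h2 : (2 : F) ≠ 0) : (4 : F) ≠ 0 := by
  rw [show (4 : F) = 2 * 2 by norm_num]
  exact mul_ne_zero h2 h2

/-- Coordinates of a commuting matrix in the companion basis. -/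
theorem exists_coord (g : SL(2, F)) (hns : NS (g : M₂)) :
    ∃ P : M₂, P.det ≠ 0 ∧ (g : M₂) = P * comp (g : M₂).trace * P⁻¹ ∧
      ∀ M : M₂, M * (g : M₂) = (g : M₂) * M →
        ∃ v : F × F, M = P * lin (g : M₂).trace v * P⁻¹ ∧ M.det = qf (g : M₂).trace v ∧
          M.trace = 2 * v.1 + (g : M₂).trace * v.2 := by
  obtain ⟨P, hP, hgP⟩ := exists_companion g.2 hns
  set t := (g : M₂).trace
  have hu : IsUnit P.det := Ne.isUnit hP
  have h1 : P * P⁻¹ = 1 := Matrix.mul_nonsing_inv P hu
  have h2 : P⁻¹ * P = 1 := Matrix.nonsing_inv_mul P hu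
  have hcomp : P⁻¹ * (g : M₂) * P = comp t := by
    rw [Matrix.mul_assoc, hgP, ← Matrix.mul_assoc, h2, Matrix.one_mul]
  have hg : (g : M₂) = P * comp t * P⁻¹ := by rw [← hgP, Matrix.mul_assoc, h1, Matrix.mul_one]
  refine ⟨P, hP, hg, fun M hM => ?_⟩
  have hc : P⁻¹ * M * P * comp t = comp t * (P⁻¹ * M * P) := by
    rw [← hcomp]
    simp only [Matrix.mul_assoc]
    rw [← Matrix.mul_assoc P P⁻¹, h1, Matrix.one_mul, ← Matrix.mul_assoc P P⁻¹, h1,
      Matrix.one_mul, ← Matrix.mul_assoc M, hM, Matrix.mul_assoc]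
  have hlin := exists_lin_of_comm hc
  have hM' : M = P * lin t ((P⁻¹ * M * P) 0 0, (P⁻¹ * M * P) 1 0) * P⁻¹ := by
    rw [← hlin]
    simp only [← Matrix.mul_assoc, h1, Matrix.one_mul]
    rw [Matrix.mul_assoc, h1, Matrix.mul_one]
  refine ⟨_, hM', ?_, ?_⟩
  · conv_lhs => rw [hM', Matrix.det_conj ((Matrix.isUnit_iff_isUnit_det P).2 hu), lin_det]
  · conv_lhs => rw [hM', Matrix.trace_mul_cycle, h2, Matrix.one_mul, Matrix.trace_fin_two]
    simp [lin]
    ring

/-- The inverse in matrix terms. -/
theorem coe_inv_eq (g : SL(2, F)) :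
    ((g⁻¹ : SL(2, F)) : M₂) = (g : M₂).trace • (1 : M₂) - (g : M₂) := by
  rw [Matrix.SpecialLinearGroup.coe_inv, Matrix.adjugate_fin_two]
  ext i j
  fin_cases i <;> fin_cases j <;> simp [Matrix.trace_fin_two]

theorem trace_inv (g : SL(2, F)) : ((g⁻¹ : SL(2, F)) : M₂).trace = (g : M₂).trace := by
  rw [coe_inv_eq, Matrix.trace_sub, Matrix.trace_smul, Matrix.trace_one, Fintype.card_fin,
    smul_eq_mul, Nat.cast_ofNat]
  ring

/-- The other element of the torus with the same trace is the inverse. -/
theorem eq_or_eq_inv (h2 : (2 : F) ≠ 0) (g M : SL(2, F)) (ht : (g : M₂).trace ^ 2 ≠ 4)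
    (hc : M * g = g * M) (htr : (M : M₂).trace = (g : M₂).trace) : M = g ∨ M = g⁻¹ := by
  obtain ⟨P, hP, hg, hco⟩ := exists_coord g (ns_of_trace_sq g.2 ht)
  obtain ⟨v, hM, hdet, htr'⟩ := hco (M : M₂) (congrArg (fun y : SL(2, F) => (y : M₂)) hc)
  set t := (g : M₂).trace
  rw [M.2] at hdet
  rw [htr] at htr'
  simp only [qf] at hdet
  have hy : (v.2 - 1) * (v.2 + 1) = 0 := by
    refine mul_left_cancel₀ (sub_ne_zero.2 (Ne.symm ht) : (4 : F) - t ^ 2 ≠ 0) ?_
    linear_combination (-4 : F) * hdet + (t + (2 * v.1 + t * v.2)) * htr'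
  have hu : IsUnit P.det := Ne.isUnit hP
  rcases mul_eq_zero.1 hy with h | h
  · left
    have hy1 : v.2 = 1 := sub_eq_zero.1 h
    have hx0 : v.1 = 0 := mul_left_cancel₀ h2 (by linear_combination -htr' - t * hy1)
    apply Subtype.ext
    rw [hM, hg]
    congr 2
    ext i j
    fin_cases i <;> fin_cases j <;> simp [lin, comp, hy1, hx0]
  · right
    have hy1 : v.2 = -1 := eq_neg_of_add_eq_zero_left h
    have hxt : v.1 = t := mul_left_cancel₀ h2 (by linear_combination -htr' - t * hy1)
    apply Subtype.ext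
    rw [hM, coe_inv_eq]
    have hPP : P * P⁻¹ = 1 := Matrix.mul_nonsing_inv P hu
    have hl : lin t v = t • (1 : M₂) - comp t := by
      ext i j
      fin_cases i <;> fin_cases j <;> simp [lin, comp, hy1, hxt]
    rw [hl, Matrix.mul_sub, Matrix.sub_mul, Matrix.mul_smul, Matrix.smul_mul, Matrix.mul_one, hPP,
      ← hg]

/-- In a torus only `±1` have trace `±2`. -/
theorem ns_dichotomy (h2 : (2 : F) ≠ 0) (g M : SL(2, F)) (ht : (g : M₂).trace ^ 2 ≠ 4)
    (hc : M * g = g * M) :
    ((M : M₂) = 1 ∨ (M : M₂) = -1) ∨ (M : M₂).trace ^ 2 ≠ 4 := by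
  by_cases hs : (M : M₂).trace ^ 2 = 4
  swap
  · exact Or.inr hs
  left
  obtain ⟨P, hP, -, hco⟩ := exists_coord g (ns_of_trace_sq g.2 ht)
  obtain ⟨v, hM, hdet, htr'⟩ := hco (M : M₂) (congrArg (fun y : SL(2, F) => (y : M₂)) hc)
  set t := (g : M₂).trace
  rw [M.2] at hdet
  simp only [qf] at hdet
  have hy : v.2 = 0 := by
    have h0 : (4 - t ^ 2) * v.2 ^ 2 = 0 := by
      linear_combination (-4 : F) * hdet - hs + ((M : M₂).trace + (2 * v.1 + t * v.2)) * htr'
    exact pow_eq_zero_iff two_ne_zero |>.1 ((mul_eq_zero.1 h0).resolve_left (sub_ne_zero.2 (Ne.symm ht)))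
  have hu : IsUnit P.det := Ne.isUnit hP
  have hM' : (M : M₂) = v.1 • (1 : M₂) := by
    rw [hM, show lin t v = v.1 • (1 : M₂) by
      ext i j; fin_cases i <;> fin_cases j <;> simp [lin, hy],
      Matrix.mul_smul, Matrix.smul_mul, Matrix.mul_one, Matrix.mul_nonsing_inv P hu]
  rcases sq_eq_one_iff.1 (show v.1 ^ 2 = 1 by rw [hy] at hdet; linear_combination -hdet) with h | h
  · exact Or.inl (by rw [hM', h, one_smul])
  · exact Or.inr (by rw [hM', h, neg_one_smul])

/-- Two nonscalar commuting elements have the same centraliser. -/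
theorem centralizer_eq_of_commute (g M : SL(2, F)) (hg : NS (g : M₂)) (hM : NS (M : M₂))
    (hc : M * g = g * M) :
    Subgroup.centralizer ({M} : Set SL(2, F)) = Subgroup.centralizer ({g} : Set SL(2, F)) := by
  have key : ∀ a b : SL(2, F), NS (a : M₂) → b * a = a * b →
      ∀ x : SL(2, F), x * a = a * x → x * b = b * x := by
    intro a b ha hba x hx
    apply Subtype.ext
    obtain ⟨P, -, -, hco⟩ := exists_coord a ha
    obtain ⟨v, hv, -, -⟩ := hco (x : M₂) (congrArg (fun y : SL(2, F) => (y : M₂)) hx)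
    obtain ⟨w, hw, -, -⟩ := hco (b : M₂) (congrArg (fun y : SL(2, F) => (y : M₂)) hba)
    show (x : M₂) * (b : M₂) = (b : M₂) * (x : M₂)
    rw [hv, hw]
    have hlin : lin (a : M₂).trace v * lin (a : M₂).trace w = lin (a : M₂).trace w * lin (a : M₂).trace v := by
      ext i j
      fin_cases i <;> fin_cases j <;> simp [lin, Matrix.mul_apply, Fin.sum_univ_two] <;> ring
    by_cases hu : IsUnit P.det
    · simp only [Matrix.mul_assoc]
      rw [← Matrix.mul_assoc P⁻¹ P, Matrix.nonsing_inv_mul P hu, ← Matrix.mul_assoc P⁻¹ P,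
        Matrix.nonsing_inv_mul P hu, Matrix.one_mul, Matrix.one_mul,
        ← Matrix.mul_assoc (lin _ v), hlin, Matrix.mul_assoc]
    · simp [Matrix.nonsing_inv_apply_not_isUnit P hu]
  ext x
  simp only [Subgroup.mem_centralizer_singleton_iff]
  exact ⟨fun h => key M g hM hc.symm x h, fun h => key g M hg hc x h⟩

/-- The torus is cyclic. -/
theorem isCyclic_centralizer [Finite F] (g : SL(2, F)) (ht : (g : M₂).trace ^ 2 ≠ 4) :
    IsCyclic (Subgroup.centralizer ({g} : Set SL(2, F))) := by
  classical
  obtain ⟨P, hP, hg, hco⟩ := exists_coord g (ns_of_trace_sq g.2 ht)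
  set t := (g : M₂).trace with ht_def
  let K := AlgebraicClosure F
  obtain ⟨θ, hθ⟩ : ∃ θ : K, θ ^ 2 - algebraMap F K t * θ + 1 = 0 := by
    obtain ⟨θ, hθ⟩ := IsAlgClosed.exists_aeval_eq_zero K
      (Polynomial.X ^ 2 - Polynomial.C t * Polynomial.X + 1)
      (by
        have : (Polynomial.X ^ 2 - Polynomial.C t * Polynomial.X + 1 : Polynomial F).degree = 2 := by
          compute_degree!
        rw [this]; decide)
    exact ⟨θ, by simpa using hθ⟩
  have hu : IsUnit P.det := Ne.isUnit hP
  have h1 : P * P⁻¹ = 1 := Matrix.mul_nonsing_inv P hu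
  have h2 : P⁻¹ * P = 1 := Matrix.nonsing_inv_mul P hu
  have hv : ∀ M : Subgroup.centralizer ({g} : Set SL(2, F)), ∃ v : F × F,
      P⁻¹ * ((M : SL(2, F)) : M₂) * P = lin t v ∧ qf t v = 1 := fun M => by
    obtain ⟨v, hM, hdet, -⟩ := hco _
      (congrArg (fun y : SL(2, F) => (y : M₂)) (Subgroup.mem_centralizer_singleton_iff.1 M.2))
    refine ⟨v, ?_, by rw [← hdet]; exact (M : SL(2, F)).2⟩
    rw [hM]
    simp only [← Matrix.mul_assoc, h2, Matrix.one_mul]
    rw [Matrix.mul_assoc, h2, Matrix.mul_one]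
  let ψ : M₂ → K := fun N => algebraMap F K (N 0 0) + θ * algebraMap F K (N 1 0)
  let f : Subgroup.centralizer ({g} : Set SL(2, F)) →* K :=
    { toFun := fun M => ψ (P⁻¹ * ((M : SL(2, F)) : M₂) * P)
      map_one' := by
        show ψ (P⁻¹ * (1 : M₂) * P) = 1
        rw [Matrix.mul_one, h2]
        simp [ψ]
      map_mul' := fun A B => by
        obtain ⟨v, hA, -⟩ := hv A
        obtain ⟨w, hB, -⟩ := hv B
        show ψ (P⁻¹ * (((A : SL(2, F)) : M₂) * ((B : SL(2, F)) : M₂)) * P) = _ * _
        have hAB : P⁻¹ * (((A : SL(2, F)) : M₂) * ((B : SL(2, F)) : M₂)) * P =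
            (P⁻¹ * ((A : SL(2, F)) : M₂) * P) * (P⁻¹ * ((B : SL(2, F)) : M₂) * P) := by
          simp only [Matrix.mul_assoc]
          rw [← Matrix.mul_assoc P P⁻¹, h1, Matrix.one_mul]
        rw [hAB, hA, hB]
        simp [ψ, lin, Matrix.mul_apply, Fin.sum_univ_two]
        linear_combination (-(algebraMap F K v.2 * algebraMap F K w.2)) * hθ }
  refine isCyclic_of_subgroup_isDomain (f : _ →* K) ?_
  rw [injective_iff_map_eq_one]
  intro M hM
  obtain ⟨v, hv', hq⟩ := hv M
  have hx : algebraMap F K v.1 + θ * algebraMap F K v.2 = 1 := by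
    have : ψ (lin t v) = 1 := hv' ▸ hM
    simpa [ψ, lin] using this
  have hx' : algebraMap F K v.1 + (algebraMap F K t - θ) * algebraMap F K v.2 = 1 := by
    have h := congrArg (algebraMap F K) hq
    simp only [qf, map_add, map_mul, map_pow, map_one] at h
    linear_combination h - (algebraMap F K v.2) ^ 2 * hθ -
      (algebraMap F K v.1 + (algebraMap F K t - θ) * algebraMap F K v.2) * hx
  have hne : 2 * θ - algebraMap F K t ≠ 0 := by
    intro h
    apply ht
    apply (algebraMap F K).injective
    rw [map_pow, map_ofNat]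
    linear_combination (-4 : K) * hθ + (2 * θ - algebraMap F K t) * h
  have hy : v.2 = 0 := by
    apply (algebraMap F K).injective
    rw [map_zero]
    exact mul_left_cancel₀ hne (by linear_combination hx - hx')
  have hx1 : v.1 = 1 := by
    apply (algebraMap F K).injective
    rw [hy, map_zero, mul_zero, add_zero] at hx
    rw [map_one, hx]
  apply Subtype.ext
  apply Subtype.ext
  have hl : lin t v = 1 := by
    ext i j; fin_cases i <;> fin_cases j <;> simp [lin, hy, hx1]
  have := congrArg (fun N => P * N * P⁻¹) (hv'.trans hl)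
  simp only [← Matrix.mul_assoc, h1, Matrix.one_mul, Matrix.mul_one] at this
  rw [Matrix.mul_assoc, h1, Matrix.mul_one] at this
  exact this

theorem coe_eq_one_iff (x : SL(2, F)) : (x : M₂) = 1 ↔ x = 1 := ⟨fun h => Subtype.ext h, fun h => h ▸ rfl⟩

theorem mul_self_eq_one_iff (h2 : (2 : F) ≠ 0) (x : SL(2, F)) :
    x * x = 1 ↔ (x : M₂) = 1 ∨ (x : M₂) = -1 := by
  constructor
  · intro h
    by_cases h1 : x = 1
    · exact Or.inl (h1 ▸ rfl)
    · right
      rw [Linear.eq_neg_one_of_mul_self h2 h1 h]
  · intro h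
    apply Subtype.ext
    show (x : M₂) * (x : M₂) = 1
    rcases h with h | h <;> rw [h] <;> simp

variable [Fintype F]

theorem natCard_normalizer_torus (h2 : (2 : F) ≠ 0) (g : SL(2, F)) (ht : (g : M₂).trace ^ 2 ≠ 4) :
    let C := Subgroup.centralizer ({g} : Set SL(2, F))
    Nat.card (Subgroup.normalizer (C : Set SL(2, F))) = 2 * Nat.card C ∧
      2 * Nat.card (ConjClasses (Subgroup.normalizer (C : Set SL(2, F)))) = Nat.card C + 6 ∧
      ∀ x ∈ Subgroup.normalizer (C : Set SL(2, F)), x ∉ C →
        (x : M₂) * (x : M₂) = -1 ∧ ∀ c ∈ C, x * c * x⁻¹ = c⁻¹ := by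
  classical
  intro C
  set N := Subgroup.normalizer (C : Set SL(2, F)) with hN
  have hgC : g ∈ C := Subgroup.mem_centralizer_singleton_iff.2 rfl
  have hgns := ns_of_trace_sq g.2 ht
  have hgg : g ≠ g⁻¹ := by
    intro h
    have h' : g * g = 1 := by
      conv_lhs => arg 2; rw [h]
      exact mul_inv_cancel g
    rcases (mul_self_eq_one_iff h2 g).1 h' with h1 | h1
    · exact hgns 1 (by rw [one_smul]; exact h1)
    · exact hgns (-1) (by rw [neg_one_smul]; exact h1)
  have hcomm : ∀ a ∈ C, ∀ b ∈ C, a * b = b * a := by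
    intro a ha b hb
    rw [Subgroup.mem_centralizer_singleton_iff] at ha hb
    by_cases hz : ∃ z : F, (b : M₂) = z • (1 : M₂)
    · obtain ⟨z, hz⟩ := hz
      apply Subtype.ext
      show (a : M₂) * (b : M₂) = (b : M₂) * (a : M₂)
      rw [hz, Matrix.mul_smul, Matrix.smul_mul, Matrix.mul_one, Matrix.one_mul]
    · push Not at hz
      have h := centralizer_eq_of_commute g b hgns hz hb
      have : a ∈ Subgroup.centralizer ({b} : Set SL(2, F)) :=
        h ▸ Subgroup.mem_centralizer_singleton_iff.2 ha
      exact Subgroup.mem_centralizer_singleton_iff.1 this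
  have hconjtr : ∀ x c : SL(2, F), ((x * c * x⁻¹ : SL(2, F)) : M₂).trace = (c : M₂).trace := by
    intro x c
    show ((x : M₂) * (c : M₂) * ((x⁻¹ : SL(2, F)) : M₂)).trace = _
    rw [Matrix.trace_mul_cycle, ← Matrix.SpecialLinearGroup.coe_mul x⁻¹ x, inv_mul_cancel,
      Matrix.SpecialLinearGroup.coe_one, Matrix.one_mul]
  have hCN : C ≤ N := by
    intro c hc
    rw [hN, Subgroup.mem_normalizer_iff]
    intro y
    constructor
    · intro hy; exact C.mul_mem (C.mul_mem hc hy) (C.inv_mem hc)
    · intro hy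
      have := C.mul_mem (C.mul_mem (C.inv_mem hc) hy) hc
      simpa [mul_assoc] using this
  -- outside elements invert the torus
  have hinv : ∀ x ∈ N, x ∉ C → ∀ c ∈ C, x * c * x⁻¹ = c⁻¹ := by
    intro x hx hxC c hc
    have hc' : x * c * x⁻¹ ∈ C := (Subgroup.mem_normalizer_iff.1 hx c).1 hc
    rcases ns_dichotomy h2 g c ht (Subgroup.mem_centralizer_singleton_iff.1 hc) with h | h
    · have hcc : c * c = 1 := (mul_self_eq_one_iff h2 c).2 h
      have hcen : x * c = c * x := by
        apply Subtype.ext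
        show (x : M₂) * (c : M₂) = (c : M₂) * (x : M₂)
        rcases h with h | h <;> rw [h] <;> simp
      rw [hcen, mul_inv_cancel_right, eq_inv_iff_mul_eq_one, hcc]
    · rcases eq_or_eq_inv h2 c (x * c * x⁻¹) h (hcomm _ hc' _ hc) (hconjtr x c) with e | e
      · exfalso
        apply hxC
        have hxc : x ∈ Subgroup.centralizer ({c} : Set SL(2, F)) :=
          Subgroup.mem_centralizer_singleton_iff.2 (by
            calc x * c = x * c * x⁻¹ * x := by group
              _ = c * x := by rw [e])
        rwa [centralizer_eq_of_commute g c hgns (ns_of_trace_sq c.2 h)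
          (Subgroup.mem_centralizer_singleton_iff.1 hc)] at hxc
      · exact e
  have hsq : ∀ x ∈ N, x ∉ C → (x : M₂) * (x : M₂) = -1 := by
    intro x hx hxC
    have hx2 : x * x ∈ C := by
      rw [Subgroup.mem_centralizer_singleton_iff]
      have h1 := hinv x hx hxC g hgC
      have h3 : x * g = g⁻¹ * x := by rw [← h1]; group
      have h4 : x * g⁻¹ = g * x := by
        have := congrArg (fun y => g * y * g⁻¹) h3
        simp only [← mul_assoc, mul_inv_cancel, one_mul, mul_inv_cancel_right] at this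
        exact this.symm
      rw [mul_assoc, h3, ← mul_assoc, h4, mul_assoc]
    have h1 := hinv x hx hxC (x * x) hx2
    have h4 : (x * x) * (x * x) = 1 := by
      rw [show x * (x * x) * x⁻¹ = x * x by group] at h1
      conv_lhs => arg 2; rw [h1]
      exact mul_inv_cancel _
    rcases (mul_self_eq_one_iff h2 (x * x)).1 h4 with h | h
    · exfalso
      apply hxC
      rcases (mul_self_eq_one_iff h2 x).1 ((coe_eq_one_iff _).1 h) with h' | h' <;>
      · rw [Subgroup.mem_centralizer_singleton_iff]
        apply Subtype.ext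
        show (x : M₂) * (g : M₂) = (g : M₂) * (x : M₂)
        rw [h']; simp
    · exact h
  obtain ⟨w, hw⟩ := exists_conj g g⁻¹ (trace_inv g).symm ht
  have hwg : w * g = g⁻¹ * w := by rw [← hw]; group
  have hwC : w ∉ C := by
    intro h
    rw [Subgroup.mem_centralizer_singleton_iff] at h
    apply hgg
    rw [← hw, h, mul_inv_cancel_right]
  have hwc : ∀ c ∈ C, w * c * w⁻¹ ∈ C ∧ w⁻¹ * c * w ∈ C := by
    intro c hc
    have hc' := Subgroup.mem_centralizer_singleton_iff.1 hc
    have hcinv : c * g⁻¹ = g⁻¹ * c := by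
      have := congrArg (fun y => g⁻¹ * y * g⁻¹) hc'
      simpa [mul_assoc] using this.symm
    constructor
    · rw [Subgroup.mem_centralizer_singleton_iff]
      have hw' : w⁻¹ * g = g⁻¹ * w⁻¹ := by
        have hw2 : w * g⁻¹ * w⁻¹ = g := by
          have := congrArg (fun y => y⁻¹) hw
          simpa [mul_assoc] using this
        conv_lhs => arg 2; rw [← hw2]
        group
      calc w * c * w⁻¹ * g = w * (c * g⁻¹) * w⁻¹ := by rw [mul_assoc (w * c), hw']; group
        _ = w * g⁻¹ * c * w⁻¹ := by rw [hcinv]; group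
        _ = g * (w * c * w⁻¹) := by
          have : w * g⁻¹ = g * w := by
            have := congrArg (fun y => g * y * g⁻¹) hwg
            simpa [mul_assoc] using this.symm
          rw [this]; group
    · rw [Subgroup.mem_centralizer_singleton_iff]
      calc w⁻¹ * c * w * g = w⁻¹ * (c * g⁻¹) * w := by rw [mul_assoc (w⁻¹ * c), hwg]; group
        _ = w⁻¹ * g⁻¹ * c * w := by rw [hcinv]; group
        _ = g * (w⁻¹ * c * w) := by
          have : w⁻¹ * g⁻¹ = g * w⁻¹ := by
            have := congrArg (fun y => w⁻¹ * y * w⁻¹) hwg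
            simpa [mul_assoc] using this.symm
          rw [this]; group
  have hwN : w ∈ N := by
    rw [hN, Subgroup.mem_normalizer_iff]
    intro y
    refine ⟨fun hy => (hwc y hy).1, fun hy => ?_⟩
    have := (hwc _ hy).2
    simpa [mul_assoc] using this
  -- index two
  have hidx : (C.subgroupOf N).index = 2 := by
    rw [Subgroup.index_eq_two_iff]
    refine ⟨⟨w, hwN⟩, fun b => ?_⟩
    simp only [Subgroup.mem_subgroupOf, Subgroup.coe_mul]
    by_cases hb : (b : SL(2, F)) ∈ C
    · refine Or.inr ⟨hb, fun h => hwC ?_⟩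
      simpa using C.mul_mem (C.inv_mem hb) h
    · refine Or.inl ⟨?_, hb⟩
      rw [Subgroup.mem_centralizer_singleton_iff]
      have h1 := hinv _ b.2 hb g hgC
      have h3 : (b : SL(2, F)) * g = g⁻¹ * (b : SL(2, F)) := by rw [← h1]; group
      have h5 : (b : SL(2, F)) * g⁻¹ = g * (b : SL(2, F)) := by
        have := congrArg (fun y => g * y * g⁻¹) h3
        simpa [mul_assoc] using this.symm
      rw [mul_assoc, hwg, ← mul_assoc, h5, mul_assoc]
  have hcardN : Nat.card N = 2 * Nat.card C := by
    have := (C.subgroupOf N).index_mul_card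
    rw [hidx, Nat.card_congr (Subgroup.subgroupOfEquivOfLe hCN).toEquiv] at this
    exact this.symm
  refine ⟨hcardN, ?_, fun x hx hxC => ⟨hsq x hx hxC, hinv x hx hxC⟩⟩
  -- class count
  set n := Nat.card C
  have hpair : Nat.card {p : N × N // Commute p.1 p.2} = (n + 6) * n := by
    rw [Nat.card_congr (Equiv.subtypeProdEquivSigmaSubtype fun a b : N => Commute a b), Nat.card_sigma]
    let Z : Finset N := Finset.univ.filter fun a : N => ((a : SL(2, F)) : M₂) = 1 ∨ ((a : SL(2, F)) : M₂) = -1
    let C' : Finset N := Finset.univ.filter fun a : N => (a : SL(2, F)) ∈ C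
    have hZC : Z ⊆ C' := by
      intro a ha
      simp only [Z, C', Finset.mem_filter, Finset.mem_univ, true_and] at ha ⊢
      rw [Subgroup.mem_centralizer_singleton_iff]
      apply Subtype.ext
      show ((a : SL(2, F)) : M₂) * (g : M₂) = (g : M₂) * ((a : SL(2, F)) : M₂)
      rcases ha with h | h <;> rw [h] <;> simp
    have hC'card : C'.card = n := by
      rw [← Nat.card_eq_finsetCard]
      exact Nat.card_congr
        { toFun := fun a => ⟨((a.1 : N) : SL(2, F)), (Finset.mem_filter.1 a.2).2⟩
          invFun := fun c => ⟨⟨c.1, hCN c.2⟩, Finset.mem_filter.2 ⟨Finset.mem_univ _, c.2⟩⟩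
          left_inv := fun a => rfl
          right_inv := fun c => rfl }
    have hm1N : (mk (-1 : M₂) (by rw [Matrix.det_neg]; simp)) ∈ N := hCN (by
      rw [Subgroup.mem_centralizer_singleton_iff]
      apply Subtype.ext
      show (-1 : M₂) * (g : M₂) = (g : M₂) * (-1 : M₂)
      simp)
    have hZcard : Z.card = 2 := by
      have : Z = {(1 : N), ⟨_, hm1N⟩} := by
        ext a
        simp only [Z, Finset.mem_filter, Finset.mem_univ, true_and, Finset.mem_insert,
          Finset.mem_singleton]
        constructor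
        · rintro (h | h)
          · exact Or.inl (Subtype.ext (Subtype.ext h))
          · exact Or.inr (Subtype.ext (Subtype.ext h))
        · rintro (rfl | rfl)
          · exact Or.inl rfl
          · exact Or.inr rfl
      rw [this, Finset.card_pair]
      intro h
      have h' : (1 : M₂) 0 0 = (-1 : M₂) 0 0 :=
        congrArg (fun a : N => ((a : SL(2, F)) : M₂) 0 0) h
      simp at h'
      exact h2 (by linear_combination h')
    have hz : ∀ a ∈ Z, Nat.card {b : N // Commute a b} = 2 * n := by
      intro a ha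
      rw [← hcardN]
      refine Nat.card_congr (Equiv.subtypeUnivEquiv fun b => ?_)
      simp only [Z, Finset.mem_filter, Finset.mem_univ, true_and] at ha
      apply Subtype.ext
      apply Subtype.ext
      show ((a : SL(2, F)) : M₂) * ((b : SL(2, F)) : M₂) = ((b : SL(2, F)) : M₂) * ((a : SL(2, F)) : M₂)
      rcases ha with h | h <;> rw [h] <;> simp
    have hc : ∀ a ∈ C' \ Z, Nat.card {b : N // Commute a b} = n := by
      intro a ha
      simp only [Z, C', Finset.mem_sdiff, Finset.mem_filter, Finset.mem_univ, true_and] at ha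
      rw [← hC'card, ← Nat.card_eq_finsetCard]
      refine Nat.card_congr (Equiv.subtypeEquivRight fun b => ?_)
      simp only [C', Finset.mem_filter, Finset.mem_univ, true_and]
      constructor
      · intro hab
        have hans : NS ((a : SL(2, F)) : M₂) := by
          rcases ns_dichotomy h2 g a ht (Subgroup.mem_centralizer_singleton_iff.1 ha.1) with h | h
          · exact absurd h ha.2
          · exact ns_of_trace_sq (a : SL(2, F)).2 h
        have hb : (b : SL(2, F)) ∈ Subgroup.centralizer ({(a : SL(2, F))} : Set SL(2, F)) :=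
          Subgroup.mem_centralizer_singleton_iff.2 (congrArg Subtype.val hab.eq.symm)
        rwa [centralizer_eq_of_commute g a hgns hans
          (Subgroup.mem_centralizer_singleton_iff.1 ha.1)] at hb
      · intro hb
        exact Subtype.ext (hcomm _ ha.1 _ hb)
    have ho : ∀ a ∈ C'ᶜ, Nat.card {b : N // Commute a b} = 4 := by
      intro a ha
      simp only [C', Finset.mem_compl, Finset.mem_filter, Finset.mem_univ, true_and] at ha
      have hkey : ∀ c : N, (c : SL(2, F)) ∈ C → Commute a c → c ∈ Z := by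
        intro c hcC hac
        have h1 := hinv _ a.2 ha _ hcC
        have h3 : (a : SL(2, F)) * c = c * a := congrArg Subtype.val hac.eq
        rw [h3, mul_inv_cancel_right, eq_inv_iff_mul_eq_one] at h1
        simp only [Z, Finset.mem_filter, Finset.mem_univ, true_and]
        exact (mul_self_eq_one_iff h2 _).1 h1
      have hset : (Finset.univ.filter fun b => Commute a b) = Z ∪ Z.image (fun z => a * z) := by
        ext b
        simp only [Finset.mem_filter, Finset.mem_univ, true_and, Finset.mem_union, Finset.mem_image]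
        constructor
        · intro hab
          by_cases hb : (b : SL(2, F)) ∈ C
          · exact Or.inl (hkey b hb hab)
          · right
            refine ⟨a⁻¹ * b, hkey _ ?_ ((Commute.refl a).inv_right.mul_right hab),
              mul_inv_cancel_left a b⟩
            have hbg := hinv _ b.2 hb g hgC
            have hag := hinv _ a.2 ha g hgC
            show ((a⁻¹ * b : N) : SL(2, F)) ∈ C
            rw [Subgroup.mem_centralizer_singleton_iff, Subgroup.coe_mul, Subgroup.coe_inv]
            calc ((a : SL(2, F))⁻¹ * b) * g = (a : SL(2, F))⁻¹ * ((b : SL(2, F)) * g * (b : SL(2, F))⁻¹) * b := by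
                  group
              _ = (a : SL(2, F))⁻¹ * ((a : SL(2, F)) * g * (a : SL(2, F))⁻¹) * b := by rw [hbg, hag]
              _ = g * ((a : SL(2, F))⁻¹ * b) := by group
        · have hzc : ∀ z ∈ Z, Commute a z := by
            intro z hz'
            simp only [Z, Finset.mem_filter, Finset.mem_univ, true_and] at hz'
            apply Subtype.ext
            apply Subtype.ext
            show ((a : SL(2, F)) : M₂) * ((z : SL(2, F)) : M₂) =
              ((z : SL(2, F)) : M₂) * ((a : SL(2, F)) : M₂)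
            rcases hz' with h | h <;> rw [h] <;> simp
          rintro (hb | ⟨z, hz', rfl⟩)
          · exact hzc b hb
          · exact (Commute.refl a).mul_right (hzc z hz')
      rw [Nat.card_eq_fintype_card, Fintype.card_subtype, hset,
        Finset.card_union_of_disjoint, Finset.card_image_of_injective _ (mul_right_injective a),
        hZcard]
      rw [Finset.disjoint_left]
      intro b hb hb'
      obtain ⟨z, hz', rfl⟩ := Finset.mem_image.1 hb'
      have h1 : ((a * z : N) : SL(2, F)) ∈ C := (Finset.mem_filter.1 (hZC hb)).2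
      have h3 : (z : SL(2, F)) ∈ C := (Finset.mem_filter.1 (hZC hz')).2
      exact ha (by simpa using C.mul_mem h1 (C.inv_mem h3))
    rw [← Finset.sum_add_sum_compl C', ← Finset.sum_sdiff hZC, Finset.sum_congr rfl hc,
      Finset.sum_congr rfl hz, Finset.sum_congr rfl ho, Finset.sum_const, Finset.sum_const,
      Finset.sum_const, Finset.card_sdiff_of_subset hZC, hZcard, hC'card, Finset.card_compl,
      hC'card, smul_eq_mul, smul_eq_mul, smul_eq_mul, ← Nat.card_eq_fintype_card, hcardN]
    have : 2 ≤ n := by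
      have hle := Finset.card_le_card hZC
      omega
    obtain ⟨k, hk⟩ := Nat.exists_eq_add_of_le this
    rw [hk]
    simp only [Nat.add_sub_cancel_left]
    rw [show 2 * (2 + k) - (2 + k) = 2 + k by omega]
    ring
  rw [card_comm_eq_card_conjClasses_mul_card, hcardN] at hpair
  exact Nat.eq_of_mul_eq_mul_right Nat.card_pos (by rw [← hpair]; ring)

end Cfsg.Agent.Spec.Two

namespace Cfsg.Agent.Spec.Two

variable {F : Type*} [Field F]

local notation "M₂" => Matrix (Fin 2) (Fin 2) F

theorem exists_eigen_of_root (g : SL(2, F)) {r : F} (hr : r ^ 2 - (g : M₂).trace * r + 1 = 0) :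
    ∃ v : Fin 2 → F, v ≠ 0 ∧ (g : M₂).mulVec v = r • v := by
  obtain ⟨v, hv, hv'⟩ := Matrix.exists_mulVec_eq_zero_iff.2
    (show ((g : M₂) - r • (1 : M₂)).det = 0 by
      have hd : (g : M₂).det = 1 := g.2
      rw [Matrix.det_fin_two] at hd
      rw [Matrix.trace_fin_two] at hr
      simp [Matrix.det_fin_two]
      linear_combination hr + hd)
  refine ⟨v, hv, ?_⟩
  rwa [Matrix.sub_mulVec, Matrix.smul_mulVec, Matrix.one_mulVec, sub_eq_zero] at hv'

variable [Fintype F]

/-- Type and order of the torus of an element. -/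
theorem card_torus (g : SL(2, F)) (ht : (g : M₂).trace ^ 2 ≠ 4) :
    ((∃ r : F, r ^ 2 - (g : M₂).trace * r + 1 = 0) ∧
        Nat.card (Subgroup.centralizer ({g} : Set SL(2, F))) = Fintype.card F - 1) ∨
      ((∀ r : F, r ^ 2 - (g : M₂).trace * r + 1 ≠ 0) ∧
        Nat.card (Subgroup.centralizer ({g} : Set SL(2, F))) = Fintype.card F + 1) := by
  rw [card_centralizer_eq g (ns_of_trace_sq g.2 ht)]
  by_cases h : ∃ r : F, r ^ 2 - (g : M₂).trace * r + 1 = 0
  · obtain ⟨r, hr⟩ := h
    exact Or.inl ⟨⟨r, hr⟩, card_qf_split hr ht⟩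
  · push Not at h
    exact Or.inr ⟨h, card_qf_nonsplit h⟩

end Cfsg.Agent.Spec.Two
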