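import Cfsg.Agent.CharInd.Basic
import Cfsg.Prelude.Def_ParabolicCharacters

/-!
Induction of linear characters from the upper triangular subgroup of `SL(2, F)`.
-/

set_option autoImplicit false

open Matrix
open scoped MatrixGroups

namespace Cfsg.Agent.Spec.Principal

variable {F : Type*} [Field F]

local notation "M₂" => Matrix (Fin 2) (Fin 2) F

/-- The upper triangular subgroup. -/
abbrev borel : Subgroup SL(2, F) :=
  (Cfsg.upperTriangularGL 2 F).comap Matrix.SpecialLinearGroup.toGL

/-- The function `b ↦ α (b₀₀)`. -/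
noncomputable abbrev lift (α : MulChar F ℂ) : ↥(borel (F := F)) → ℂ :=
  fun b => α (((b : SL(2, F)) : M₂) 0 0)

theorem mem_borel {g : SL(2, F)} : g ∈ borel ↔ (g : M₂) 1 0 = 0 := by
  constructor
  · intro h; exact h (by decide : (0 : Fin 2) < 1)
  · intro h i j hij
    fin_cases i <;> fin_cases j <;> simp at hij
    exact h

theorem lift_isClassFunction (α : MulChar F ℂ) : Cfsg.IsClassFunction ↥(borel (F := F)) (lift α) := by
  have hmul : ∀ a b : ↥(borel (F := F)), lift α (a * b) = lift α a * lift α b := by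
    intro a b
    have hb := mem_borel.1 b.2
    simp [lift, Matrix.mul_apply, Fin.sum_univ_two, hb]
  intro g h
  rw [hmul, hmul, mul_comm (lift α h), mul_assoc, ← hmul h, mul_inv_cancel]
  simp [lift]

/-- The representative of a coset other than `B`. -/
def rep (c : F) : SL(2, F) := ⟨!![-c, 1; -1, 0], by simp [Matrix.det_fin_two]⟩

theorem coe_rep (c : F) : ((rep c : SL(2, F)) : M₂) = !![-c, 1; -1, 0] := rfl

theorem conj_rep_entries (g : SL(2, F)) (c : F) :
    (((rep c)⁻¹ * g * rep c : SL(2, F)) : M₂) 1 0 =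
        (g : M₂) 1 0 * c ^ 2 + ((g : M₂) 1 1 - (g : M₂) 0 0) * c - (g : M₂) 0 1 ∧
      (((rep c)⁻¹ * g * rep c : SL(2, F)) : M₂) 0 0 = c * (g : M₂) 1 0 + (g : M₂) 1 1 := by
  constructor <;>
    simp [Matrix.SpecialLinearGroup.coe_inv, coe_rep, Matrix.adjugate_fin_two, Matrix.mul_apply,
      Matrix.vecMul, dotProduct, Fin.sum_univ_two] <;> ring

variable [Fintype F]

open scoped Classical in
/-- The induced character as a sum over the projective line. -/
theorem indFun_eq (α : MulChar F ℂ) (g : SL(2, F)) [Fintype SL(2, F)] :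
    Cfsg.indFun borel (lift α) g =
      (if (g : M₂) 1 0 = 0 then α ((g : M₂) 0 0) else 0) +
        ∑ c : F, if (g : M₂) 1 0 * c ^ 2 + ((g : M₂) 1 1 - (g : M₂) 0 0) * c - (g : M₂) 0 1 = 0
          then α (c * (g : M₂) 1 0 + (g : M₂) 1 1) else 0 := by
  have hext : ∀ y : SL(2, F), Cfsg.extendByZero borel (lift α) y =
      if (y : M₂) 1 0 = 0 then α ((y : M₂) 0 0) else 0 := by
    intro y
    split_ifs with h
    · rw [CharInd.extendByZero_mem _ _ (mem_borel.2 h)]
    · exact CharInd.extendByZero_notMem _ _ (mt mem_borel.1 h)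
  let rep' : Option F → SL(2, F) := fun o => o.elim 1 rep
  have hbij : Function.Bijective
      (fun p : Option F × ↥(borel (F := F)) => rep' p.1 * (p.2 : SL(2, F))) := by
    have hinv : ∀ o o' : Option F, (rep' o)⁻¹ * rep' o' ∈ borel → o = o' := by
      intro o o' h
      rw [mem_borel] at h
      rcases o with _ | c <;> rcases o' with _ | c'
      · rfl
      · simp [rep', coe_rep] at h
      · simp [rep', Matrix.SpecialLinearGroup.coe_inv, coe_rep, Matrix.adjugate_fin_two] at h
      · simp [rep', Matrix.SpecialLinearGroup.coe_inv, coe_rep, Matrix.adjugate_fin_two,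
          Matrix.mul_apply, Matrix.vecMul, dotProduct, Fin.sum_univ_two] at h
        exact congrArg some (by linear_combination h)
    constructor
    · rintro ⟨o, b⟩ ⟨o', b'⟩ h
      have h1 : (rep' o)⁻¹ * rep' o' = (b : SL(2, F)) * (b' : SL(2, F))⁻¹ := by
        rw [eq_mul_inv_iff_mul_eq, mul_assoc, inv_mul_eq_iff_eq_mul]
        exact h.symm
      obtain rfl := hinv o o' (h1 ▸ mul_mem b.2 (inv_mem b'.2))
      exact Prod.ext rfl (Subtype.ext (mul_left_cancel h))
    · intro y
      by_cases hy : (y : M₂) 1 0 = 0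
      · exact ⟨(none, ⟨y, mem_borel.2 hy⟩), one_mul y⟩
      · set c := (y : M₂) 0 0 / (y : M₂) 1 0 with hc
        refine ⟨(some c, ⟨(rep c)⁻¹ * y, mem_borel.2 ?_⟩), mul_inv_cancel_left _ _⟩
        simp [Matrix.SpecialLinearGroup.coe_inv, coe_rep, Matrix.adjugate_fin_two, Matrix.mul_apply,
          Matrix.vecMul, dotProduct, Fin.sum_univ_two]
        rw [hc]; field_simp; ring
  rw [CharInd.indFun_apply, ← Fintype.sum_bijective _ hbij _ _ (fun _ => rfl), Fintype.sum_prod_type]
  have hterm : ∀ (o : Option F) (b : ↥(borel (F := F))),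
      Cfsg.extendByZero borel (lift α) ((rep' o * (b : SL(2, F)))⁻¹ * g * (rep' o * (b : SL(2, F)))) =
        Cfsg.extendByZero borel (lift α) ((rep' o)⁻¹ * g * rep' o) := by
    intro o b
    rw [show (rep' o * (b : SL(2, F)))⁻¹ * g * (rep' o * (b : SL(2, F))) =
      (b : SL(2, F))⁻¹ * ((rep' o)⁻¹ * g * rep' o) * ((b : SL(2, F))⁻¹)⁻¹ by group]
    exact CharInd.extendByZero_conj_mem borel (lift_isClassFunction α) (inv_mem b.2) _
  simp only [hterm, Finset.sum_const, Finset.card_univ, ← Finset.smul_sum, nsmul_eq_mul]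
  rw [← Nat.card_eq_fintype_card, ← Finset.mul_sum, inv_mul_cancel_left₀ CharInd.natCard_ne_zero, Fintype.sum_option]
  congr 1
  · simp [rep', hext]
  · refine Finset.sum_congr rfl fun c _ => ?_
    show Cfsg.extendByZero borel (lift α) ((rep c)⁻¹ * g * rep c) = _
    rw [hext, (conj_rep_entries g c).1, (conj_rep_entries g c).2]

end Cfsg.Agent.Spec.Principal
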