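import Cfsg.Agent.Spec.UnitaryRoot

/-!
Every element of the projective special unitary group can either absorb a prime dividing `q + 1`
or has order dividing the product of a power of the characteristic and the reduced torus order.
-/

set_option autoImplicit false
set_option linter.style.haveILetI false

open Polynomial

namespace Cfsg.Agent.Spec.Unitary

variable {F : Type*} [Field F] [Fintype F] {n q : ℕ}

local notation "M" => Matrix (Fin n) (Fin n) F

variable (hF : Fintype.card F = q ^ 2)

include hF in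
theorem adj_aeval (A : M) (P : F[X]) :
    adj hF (aeval A P) = aeval (adj hF A) (P.map (conjHom hF)) := by
  induction P using Polynomial.induction_on' with
  | add P Q hP hQ => simp only [map_add, Polynomial.map_add, adj_add, hP, hQ]
  | monomial k a =>
    rw [Polynomial.map_monomial, aeval_monomial, aeval_monomial, ← Algebra.smul_def,
      ← Algebra.smul_def, adj_smul, adj_pow]

include hF in
theorem rank_adj (e : M) : (adj hF e).rank = e.rank := by
  rw [adj, Matrix.rank_transpose, Matrix.rank, Matrix.rank]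
  have hbij : Function.Bijective (conjHom hF) :=
    Function.Involutive.bijective (conjHom_conjHom hF)
  let Φ : (Fin n → F) ≃ (Fin n → F) := Equiv.arrowCongr (Equiv.refl _) (Equiv.ofBijective _ hbij)
  have key : ∀ v : Fin n → F, (e.map (conjHom hF)).mulVec (Φ v) = Φ (e.mulVec v) := fun v =>
    funext fun i => (RingHom.map_mulVec (conjHom hF) e v i).symm
  have hΦ : LinearMap.range (e.map (conjHom hF)).mulVecLin ≃ LinearMap.range e.mulVecLin := by
    refine (Φ.subtypeEquiv fun v => ?_).symm
    simp only [LinearMap.mem_range, Matrix.mulVecLin_apply]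
    constructor
    · rintro ⟨u, rfl⟩
      exact ⟨Φ u, key u⟩
    · rintro ⟨u, hu⟩
      refine ⟨Φ.symm u, Φ.injective ?_⟩
      rw [← key, Equiv.apply_symm_apply, hu]
  have h := Nat.card_congr hΦ
  rw [Module.natCard_eq_pow_finrank (K := F) (V := LinearMap.range (e.map (conjHom hF)).mulVecLin),
    Module.natCard_eq_pow_finrank (K := F) (V := LinearMap.range e.mulVecLin),
    Nat.card_eq_fintype_card] at h
  exact Nat.pow_right_injective Fintype.one_lt_card h

omit [Fintype F] in
theorem rank_add_rank_one_sub (e : M) (he : e * e = e) : e.rank + (1 - e).rank = n := by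
  have hk : LinearMap.range (1 - e).mulVecLin = LinearMap.ker e.mulVecLin := by
    ext v
    simp only [LinearMap.mem_range, LinearMap.mem_ker, Matrix.mulVecLin_apply]
    constructor
    · rintro ⟨u, rfl⟩
      rw [Matrix.mulVec_mulVec, mul_sub, mul_one, he, sub_self, Matrix.zero_mulVec]
    · intro hv
      exact ⟨v, by rw [Matrix.sub_mulVec, Matrix.one_mulVec, hv, sub_zero]⟩
  rw [Matrix.rank, Matrix.rank, hk, LinearMap.finrank_range_add_finrank_ker,
    Module.finrank_fintype_fun_eq_card, Fintype.card_fin]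

omit [Fintype F] in
theorem coe_pow' (g : Cfsg.SU n F q) (k : ℕ) : ((g ^ k).1 : M) = (g.1 : M) ^ k := by
  rw [SubmonoidClass.coe_pow, Matrix.SpecialLinearGroup.coe_pow]

include hF in
theorem adj_eq_pow (g : Cfsg.SU n F q) :
    0 < orderOf g ∧ (g.1 : M) ^ orderOf g = 1 ∧ adj hF (g.1 : M) = (g.1 : M) ^ (orderOf g - 1) := by
  classical
  have hN : 0 < orderOf g := orderOf_pos g
  have hgN : (g.1 : M) ^ orderOf g = 1 := by
    rw [← coe_pow', pow_orderOf_eq_one]
    rfl
  refine ⟨hN, hgN, ?_⟩
  calc adj hF (g.1 : M) = adj hF (g.1 : M) * (g.1 : M) ^ orderOf g := by rw [hgN, mul_one]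
    _ = _ := by
      obtain ⟨N', hN'⟩ := Nat.exists_eq_add_of_lt hN
      rw [hN', zero_add, Nat.add_sub_cancel, pow_succ', ← mul_assoc, adj_mul_self hF, one_mul]

include hF in
/-- The three kinds of elements of `SU`. -/
theorem split_cases [NeZero n] (g : Cfsg.SU n F q) :
    (∃ e : M, e * e = e ∧ adj hF e = e ∧ e ≠ 0 ∧ e ≠ 1 ∧ (g.1 : M) * e = e * (g.1 : M)) ∨
      ∃ (f : F[X]) (k : ℕ) (e : M), Irreducible f ∧ k ≤ n ∧ e * e = e ∧ e ≠ 0 ∧
        (g.1 : M) * e = e * (g.1 : M) ∧ aeval (g.1 : M) (f ^ k) * e = 0 ∧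
        (e = 1 ∨ adj hF e = 1 - e) := by
  classical
  set A : M := (g.1 : M) with hA
  have hint : IsIntegral F A := A.isIntegral
  set m := minpoly F A with hm
  have hm0 : m ≠ 0 := minpoly.ne_zero hint
  obtain ⟨f, hf, hfm⟩ := WfDvdMonoid.exists_irreducible_factor (minpoly.not_isUnit F A) hm0
  have hfin : FiniteMultiplicity f m := FiniteMultiplicity.of_not_isUnit hf.not_isUnit hm0
  obtain ⟨v, hv, hfv⟩ := hfin.exists_eq_pow_mul_and_not_dvd
  set k := multiplicity f m
  have hkn : k ≤ n := by
    have h1 : (f ^ k).natDegree ≤ m.natDegree := natDegree_le_of_dvd ⟨v, hv⟩ hm0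
    have h2 : m.natDegree ≤ n := by
      have h3 := natDegree_le_of_dvd (Matrix.minpoly_dvd_charpoly A) A.charpoly_monic.ne_zero
      simpa [Matrix.charpoly_natDegree_eq_dim] using h3
    rw [natDegree_pow] at h1
    have := hf.natDegree_pos
    nlinarith
  by_cases hvu : IsUnit v
  · right
    refine ⟨f, k, 1, hf, hkn, one_mul 1, one_ne_zero, by rw [mul_one, one_mul], ?_, Or.inl rfl⟩
    obtain ⟨u, rfl⟩ := hvu
    have : f ^ k = m * ((u⁻¹ : F[X]ˣ) : F[X]) := by rw [hv, mul_assoc]; simp
    rw [this, map_mul, minpoly.aeval, zero_mul, zero_mul]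
  · obtain ⟨x, y, hxy⟩ : IsCoprime (f ^ k) v := (hf.coprime_iff_not_dvd.2 hfv).pow_left
    have hzero : aeval A (f ^ k * v) = 0 := by rw [← hv]; exact minpoly.aeval F A
    set e : M := aeval A (y * v) with he_def
    have he : e * e = e := by
      have : y * v * (y * v) = y * v - (f ^ k * v) * (x * y) := by
        linear_combination (y * v) * hxy
      rw [he_def, ← map_mul, this, map_sub, map_mul (aeval A) (f ^ k * v), hzero, zero_mul,
        sub_zero]
    have he0 : e ≠ 0 := by
      intro h
      obtain ⟨w, hw⟩ := minpoly.dvd F A h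
      rw [← hm, hv] at hw
      have hv0 : v ≠ 0 := by rintro rfl; exact hfv (dvd_zero f)
      have h1 : y = f ^ k * w := mul_right_cancel₀ hv0 (by linear_combination hw)
      have hu : IsUnit (f ^ k) :=
        isUnit_of_dvd_one ⟨w * v + x, by linear_combination (- hxy) + v * h1⟩
      rcases Nat.eq_zero_or_pos k with h0 | h0
      · apply hfv
        have : m = v := by rw [hv, h0, pow_zero, one_mul]
        exact this ▸ hfm
      · exact hf.not_isUnit ((isUnit_pow_iff h0.ne').1 hu)
    have he1 : e ≠ 1 := by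
      intro h
      have hx0 : aeval A (x * f ^ k) = 0 := by
        have := congrArg (aeval A) hxy
        rw [map_add, ← he_def, h, map_one] at this
        simpa using this
      obtain ⟨w, hw⟩ := minpoly.dvd F A hx0
      rw [← hm, hv] at hw
      apply hvu
      have h1 : x = v * w := mul_left_cancel₀ (pow_ne_zero k hf.ne_zero) (by linear_combination hw)
      exact isUnit_of_dvd_one ⟨w * f ^ k + y, by linear_combination (- hxy) + f ^ k * h1⟩
    have hfe : aeval A (f ^ k) * e = 0 := by
      rw [he_def, ← map_mul, show f ^ k * (y * v) = y * (f ^ k * v) by ring, map_mul, hzero,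
        mul_zero]
    obtain ⟨hN, _, hadjA⟩ := adj_eq_pow hF g
    have he' : adj hF e = aeval A (((y * v).map (conjHom hF)).comp (X ^ (orderOf g - 1))) := by
      rw [he_def, adj_aeval hF, hA, hadjA, aeval_comp, map_pow, aeval_X]
    have hcomm : ∀ P Q : F[X], aeval A P * aeval A Q = aeval A Q * aeval A P := fun P Q => by
      rw [← map_mul, mul_comm, map_mul]
    have hAe : A * e = e * A := by
      have := hcomm X (y * v)
      rwa [aeval_X] at this
    have hee : e * adj hF e = adj hF e * e := by rw [he', he_def]; exact hcomm _ _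
    have hAe' : A * adj hF e = adj hF e * A := by
      have := hcomm X (((y * v).map (conjHom hF)).comp (X ^ (orderOf g - 1)))
      rwa [aeval_X, ← he'] at this
    have hadj' : adj hF e * adj hF e = adj hF e := by rw [← adj_mul, he]
    -- the product of `e` and its adjoint
    have hp1 : e * adj hF e * (e * adj hF e) = e * adj hF e := by
      rw [mul_assoc, ← mul_assoc (adj hF e) e, ← hee, mul_assoc e (adj hF e), hadj', ← mul_assoc, he]
    by_cases hp0 : e * adj hF e = 0
    swap
    · left
      refine ⟨_, hp1, by rw [adj_mul, adj_adj], hp0, fun h => he1 ?_, ?_⟩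
      · calc e = e * (e * adj hF e) := by rw [h, mul_one]
          _ = e * adj hF e := by rw [← mul_assoc, he]
          _ = 1 := h
      · rw [← mul_assoc, hAe, mul_assoc, hAe', ← mul_assoc]
    have hp0' : adj hF e * e = 0 := by rw [← hee, hp0]
    by_cases hs : adj hF e = 1 - e
    · right
      exact ⟨f, k, e, hf, hkn, he, he0, hAe, hfe, Or.inr hs⟩
    · left
      refine ⟨e + adj hF e, ?_, by rw [adj_add, adj_adj, add_comm], fun h => he0 ?_,
        fun h => hs ?_, by rw [mul_add, add_mul, hAe, hAe']⟩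
      · rw [add_mul, mul_add, mul_add, he, hadj', hp0, hp0', add_zero, zero_add]
      · calc e = e * (e + adj hF e) := by rw [mul_add, he, hp0, add_zero]
          _ = 0 := by rw [h, mul_zero]
      · exact eq_sub_of_add_eq (by rw [add_comm, h])

include hF in
/-- The determinant of `A e + (1 - e)` when `A` is annihilated on the image of `e`. -/
theorem det_on_image {h : F[X]} [Fact (Irreducible h)] (hmon : h.Monic) (A e : M)
    (he : e * e = e) (hAe : A * e = e * A) (hA : aeval A h * e = 0) :
    h.natDegree ∣ e.rank ∧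
      algebraMap F (AdjoinRoot h) (A * e + (1 - e)).det =
        AdjoinRoot.root h ^ evenSum q e.rank := by
  classical
  set f := Matrix.toLin' e with hf
  set a := Matrix.toLin' A with ha
  have hff : ∀ v, f (f v) = f v := fun v => by
    rw [hf, Matrix.toLin'_apply, Matrix.toLin'_apply, Matrix.mulVec_mulVec, he]
  have hproj : LinearMap.IsProj (LinearMap.range f) f :=
    ⟨fun v => ⟨v, rfl⟩, by rintro v ⟨w, rfl⟩; exact hff w⟩
  have hinv : ∀ v ∈ LinearMap.range f, a v ∈ LinearMap.range f := by
    rintro v ⟨w, rfl⟩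
    refine ⟨a w, ?_⟩
    rw [ha, hf, Matrix.toLin'_apply, Matrix.toLin'_apply, Matrix.toLin'_apply,
      Matrix.toLin'_apply, Matrix.mulVec_mulVec, Matrix.mulVec_mulVec, hAe]
  let R : Module.End F (LinearMap.range f) := a.restrict hinv
  let E := Submodule.prodEquivOfIsCompl _ _ hproj.isCompl
  have hlin : Matrix.toLin' (A * e + (1 - e)) =
      E.toLinearMap ∘ₗ (LinearMap.prodMap R LinearMap.id) ∘ₗ E.symm.toLinearMap := by
    apply LinearMap.ext
    intro v
    obtain ⟨⟨x, y⟩, rfl⟩ := E.surjective v
    have hx : e.mulVec (x : Fin n → F) = x :=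
      (Matrix.toLin'_apply e _).symm.trans (hproj.map_id _ x.2)
    have hy : e.mulVec (y : Fin n → F) = 0 := (Matrix.toLin'_apply e _).symm.trans y.2
    simp only [LinearMap.comp_apply, LinearEquiv.coe_coe, LinearEquiv.symm_apply_apply,
      Matrix.toLin'_apply, E, Submodule.coe_prodEquivOfIsCompl', R, ha,
      LinearMap.prodMap_apply, LinearMap.id_apply, LinearMap.coe_restrict_apply]
    simp [Matrix.add_mulVec, ← Matrix.mulVec_mulVec, Matrix.sub_mulVec, Matrix.mulVec_add, hx, hy]
  have hrank : Module.finrank F (LinearMap.range f) = e.rank := by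
    rw [Matrix.rank, hf, Matrix.toLin'_apply']
  have hRpow : ∀ (P : F[X]) (x : LinearMap.range f),
      ((aeval R P) x : Fin n → F) = (aeval A P).mulVec (x : Fin n → F) := by
    intro P
    induction P using Polynomial.induction_on' with
    | add P Q hP hQ =>
      intro x
      simp only [map_add, LinearMap.add_apply, Submodule.coe_add, hP, hQ, Matrix.add_mulVec]
    | monomial i c =>
      intro x
      rw [aeval_monomial, aeval_monomial, ← Algebra.smul_def, ← Algebra.smul_def,
        LinearMap.smul_apply, Submodule.coe_smul, Matrix.smul_mulVec]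
      congr 1
      induction i with
      | zero => simp
      | succ i ih =>
        rw [pow_succ', Module.End.mul_apply, pow_succ', ← Matrix.mulVec_mulVec, ← ih,
          LinearMap.coe_restrict_apply, ha, Matrix.toLin'_apply]
  have hR : aeval R h = 0 := by
    refine LinearMap.ext fun x => Subtype.ext ?_
    rw [hRpow, ← hproj.map_id _ x.2]
    show (aeval A h).mulVec (Matrix.toLin' e (x : Fin n → F)) = 0
    rw [Matrix.toLin'_apply, Matrix.mulVec_mulVec, hA, Matrix.zero_mulVec]
  let b : Module.Basis (Fin e.rank) F (LinearMap.range f) := Module.finBasisOfFinrankEq F _ hrank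
  have hR' : aeval (LinearMap.toMatrixAlgEquiv b R) h = 0 := by
    rw [aeval_algHom_apply, hR, map_zero]
  obtain ⟨hd, hdet⟩ := det_eq_root_pow hF hmon _ hR'
  refine ⟨hd, ?_⟩
  rw [← LinearMap.det_toLin', hlin, LinearMap.det_conj, LinearMap.det_prodMap, LinearMap.det_id,
    mul_one, ← LinearMap.det_toMatrix b R]
  exact hdet

include hF in
theorem scalar_of_primary [NeZero n] (s : Cfsg.SU n F q) {h : F[X]} (hh : Irreducible h)
    (hmon : h.Monic) (e : M) (he : e * e = e) (he0 : e ≠ 0)
    (hse : (s.1 : M) * e = e * (s.1 : M)) (hs : aeval (s.1 : M) h * e = 0)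
    (hcase : e = 1 ∨ adj hF e = 1 - e) :
    ∃ c : F, (s.1 : M) ^ (torusD n q / Nat.gcd (torusD n q) (q + 1)) = c • 1 := by
  classical
  haveI := Fact.mk hh
  set A : M := (s.1 : M) with hA
  have hdetA : A.det = 1 := s.1.2
  set D' := torusD n q / Nat.gcd (torusD n q) (q + 1)
  obtain ⟨hN, hAN, hadj⟩ := adj_eq_pow hF s
  set N := orderOf s
  rcases hcase with rfl | hcase
  · rw [mul_one] at hs
    have hmin : minpoly F A = h := (minpoly.eq_of_irreducible_of_monic hh hs hmon).symm
    have hdvd : ∀ P : F[X], aeval A P = 0 → h ∣ P := fun P hP => hmin ▸ minpoly.dvd F A hP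
    have hθN : AdjoinRoot.root h ^ N = 1 := by
      have := hdvd (X ^ N - 1) (by rw [map_sub, map_pow, aeval_X, hAN, map_one, sub_self])
      rwa [← AdjoinRoot.mk_eq_zero, map_sub, map_pow, AdjoinRoot.mk_X, map_one, sub_eq_zero] at this
    have hconj : aeval (AdjoinRoot.root h ^ (N - 1)) (h.map (conjHom hF)) = 0 := by
      have := hdvd ((h.map (conjHom hF)).comp (X ^ (N - 1))) (by
        rw [aeval_comp, map_pow, aeval_X, ← hadj, ← adj_aeval hF, ← hA, hs, adj_zero])
      rwa [← AdjoinRoot.mk_eq_zero, ← AdjoinRoot.aeval_eq, aeval_comp, map_pow, aeval_X] at this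
    obtain ⟨c, _, hc⟩ := exists_scalar_of_root_pow hF hmon (n := n)
      (root_pow_torusD hF hmon A hs hdetA N hN hθN hconj)
    obtain ⟨w, hw⟩ := hc
    refine ⟨c, ?_⟩
    have := congrArg (aeval A) hw
    rw [map_mul, hs, zero_mul, map_sub, map_pow, aeval_X, aeval_C, sub_eq_zero,
      Algebra.algebraMap_eq_smul_one] at this
    exact this
  · have hq2 := two_le_q hF
    set k := e.rank with hk
    have hn2 : n = k + k := by
      have h1 := rank_add_rank_one_sub e he
      rw [← hcase, rank_adj] at h1
      exact h1.symm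
    obtain ⟨hdk, hdetx⟩ := det_on_image hF hmon A e he hse hs
    -- the two factors of `s`
    set x : M := A * e + (1 - e) with hx
    set y : M := e + A * (1 - e) with hy
    have h1 : e * (1 - e) = 0 := by rw [mul_sub, mul_one, he, sub_self]
    have h2 : (1 - e) * e = 0 := by rw [sub_mul, one_mul, he, sub_self]
    have h3 : (1 - e) * (1 - e) = 1 - e := by rw [mul_sub, mul_one, h2, sub_zero]
    have hA1 : A * (1 - e) = (1 - e) * A := by rw [mul_sub, sub_mul, mul_one, one_mul, hse]
    have hxy : x * y = A := by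
      rw [hx, hy, add_mul, mul_add, mul_add, mul_assoc A e e, he, h2, ← mul_assoc (1 - e) A,
        ← hA1, mul_assoc A (1 - e), h3, mul_assoc A e, ← mul_assoc e A, ← hse, mul_assoc A e, h1,
        mul_zero, mul_zero, add_zero, zero_add, ← mul_add, add_sub_cancel, mul_one]
    have hadjA : adj hF A * A = 1 := adj_mul_self hF s
    have hcomm' : adj hF A * e = e * adj hF A := by
      rw [hadj]; exact (Commute.pow_left hse (N - 1)).eq
    have hyx : adj hF y * x = 1 := by
      rw [hy, hx, adj_add, adj_mul, adj_sub, adj_one, hcase, sub_sub_cancel, add_mul, mul_add,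
        mul_add, ← mul_assoc (1 - e) A, ← hA1, mul_assoc A (1 - e), h2, mul_zero, h3,
        ← hcomm', mul_assoc (adj hF A) e (A * e), ← mul_assoc e A, ← hse, mul_assoc A e, he,
        ← mul_assoc (adj hF A), hadjA, one_mul, mul_assoc (adj hF A) e, h1, mul_zero, add_zero,
        zero_add, sub_add_cancel]
    have hdxy : x.det * y.det = 1 := by rw [← Matrix.det_mul, hxy, hdetA]
    have hdyx : conjHom hF y.det * x.det = 1 := by
      rw [← det_adj, ← Matrix.det_mul, hyx, Matrix.det_one]
    have hx0 : x.det ≠ 0 := left_ne_zero_of_mul_eq_one hdxy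
    have hyinv : y.det = x.det⁻¹ := eq_inv_of_mul_eq_one_right hdxy
    have hfix : x.det ^ q = x.det := by
      rw [hyinv, map_inv₀, conjHom_apply, inv_mul_eq_one₀ (pow_ne_zero q hx0)] at hdyx
      exact hdyx
    have hfix' : x.det ^ (q - 1) = 1 := by
      apply mul_right_cancel₀ hx0
      rw [← pow_succ, Nat.sub_add_cancel (by omega), hfix, one_mul]
    have hθ : AdjoinRoot.root h ^ torusD n q = 1 := by
      have hev : Even n := ⟨k, hn2⟩
      have hD := torusD_mul (n := n) (q := q) (by omega)
      rw [if_neg (Nat.not_odd_iff_even.2 hev)] at hD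
      have hDk : torusD n q = evenSum q k * (q - 1) := by
        apply Nat.eq_of_mul_eq_mul_right (show 0 < q + 1 by omega)
        have h4 := evenSum_mul (by omega : 1 ≤ q) k
        rw [← pow_mul, two_mul, ← hn2] at h4
        rw [show q ^ 2 - 1 = (q - 1) * (q + 1) by
          rw [mul_comm]; simpa using Nat.sq_sub_sq q 1, ← mul_assoc] at h4
        rw [hD]; omega
      rw [hDk, pow_mul, ← hdetx, ← map_pow, hfix', map_one]
    obtain ⟨c, hcq, w, hw⟩ := exists_scalar_of_root_pow hF hmon (n := n) hθ
    refine ⟨c, ?_⟩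
    have h5 : A ^ D' * e = c • e := by
      have h6 := congrArg (fun P => aeval A P * e) hw
      simp only [map_mul] at h6
      have h7 : aeval A h * aeval A w * e = 0 := by
        rw [← map_mul, mul_comm, map_mul, mul_assoc, hs, mul_zero]
      rw [h7, map_sub, map_pow, aeval_X, aeval_C, sub_mul, sub_eq_zero,
        Algebra.algebraMap_eq_smul_one, smul_mul_assoc, one_mul] at h6
      exact h6
    have h8 : (1 - e) * (adj hF A) ^ D' = (c ^ q) • (1 - e) := by
      have h6 := congrArg (adj hF) h5
      rwa [adj_mul, adj_pow, adj_smul, hcase, conjHom_apply] at h6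
    have hpowc : (adj hF A) ^ D' * A ^ D' = 1 := by
      have hc : Commute (adj hF A) A := by rw [hadj]; exact Commute.pow_self A _
      rw [← hc.mul_pow, hadjA, one_pow]
    have hcA : A ^ D' * (1 - e) = (1 - e) * A ^ D' := (Commute.pow_left hA1 D').eq
    have h9 : A ^ D' * (1 - e) = c • (1 - e) := by
      have h10 : (1 - e) = (c ^ q) • ((1 - e) * A ^ D') := by
        rw [← smul_mul_assoc, ← h8, mul_assoc, hpowc, mul_one]
      conv_rhs => rw [h10, smul_smul, mul_comm c, hcq, one_smul, ← hcA]
    calc A ^ D' = A ^ D' * e + A ^ D' * (1 - e) := by rw [← mul_add, add_sub_cancel, mul_one]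
      _ = c • 1 := by rw [h5, h9, ← smul_add, add_sub_cancel]

include hF in
theorem torusD_coprime {p a : ℕ} (hp : p.Prime) (hq : q = p ^ a) (hn : n ≠ 0) :
    Nat.Coprime p (torusD n q / Nat.gcd (torusD n q) (q + 1)) := by
  have hq2 := two_le_q hF
  rw [hp.coprime_iff_not_dvd]
  intro h
  have h1 : p ∣ torusD n q * (q + 1) :=
    (h.trans (Nat.div_dvd_of_dvd (Nat.gcd_dvd_left _ _))).mul_right _
  rw [torusD_mul (by omega)] at h1
  have ha : a ≠ 0 := by rintro rfl; rw [pow_zero] at hq; omega
  have h2 : p ∣ q ^ n := dvd_pow (hq ▸ dvd_pow_self p ha) hn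
  have hpos : 1 ≤ q ^ n := Nat.one_le_pow _ _ (by omega)
  split_ifs at h1
  · exact hp.not_dvd_one ((Nat.dvd_add_right h2).1 h1)
  · have := Nat.dvd_sub h2 h1
    rw [show q ^ n - (q ^ n - 1) = 1 by omega] at this
    exact hp.not_dvd_one this

include hF in
theorem dichotomy (hn : 3 ≤ n) (p E : ℕ) [Fact p.Prime] [CharP F p] (hE : n ≤ p ^ E)
    {r : ℕ} (hr : r.Prime) (hrq : r ∣ q + 1) (hrn : ¬ r ∣ n) (c : Cfsg.PSU n F q)
    (hc : torusD n q / Nat.gcd (torusD n q) (q + 1) ∣ orderOf c) (x : Cfsg.PSU n F q) :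
    (∃ y : Cfsg.PSU n F q, orderOf x ∣ orderOf y ∧ r ∣ orderOf y) ∨
      orderOf x ∣ Nat.lcm (p ^ E) (orderOf c) := by
  classical
  haveI : NeZero n := ⟨by omega⟩
  obtain ⟨g, rfl⟩ := QuotientGroup.mk'_surjective (Subgroup.center (Cfsg.SU n F q)) x
  rcases split_cases hF g with ⟨e, he, hea, he0, he1, hge⟩ | ⟨f, k, e, hf, hk, he, he0, hge, hfk, hcase⟩
  · left
    obtain ⟨z, hz, hzr⟩ := exists_z hF hn hr hrq hrn g e he hea he0 he1 hge
    exact exists_absorb hr (hz.map proj) hzr
  · right
    haveI : ExpChar F p := ExpChar.prime Fact.out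
    set s := g ^ p ^ E with hsdef
    set h₀ := f.map (iterateFrobenius F p E) with hh₀def
    have hs₀ : aeval (s.1 : Matrix (Fin n) (Fin n) F) h₀ * e = 0 := by
      rw [hsdef, coe_pow']
      have h1 : aeval (g.1 : Matrix (Fin n) (Fin n) F) (f ^ p ^ E) * e = 0 := by
        obtain ⟨t, ht⟩ := pow_dvd_pow f (hk.trans hE)
        rw [ht, mul_comm (f ^ k), map_mul, mul_assoc, hfk, mul_zero]
      have h2 : f ^ p ^ E = expand F (p ^ E) h₀ :=
        (by rw [hh₀def, ← Polynomial.map_expand, map_iterateFrobenius_expand])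
      rw [h2, expand_eq_comp_X_pow, aeval_comp, map_pow, aeval_X] at h1
      exact h1
    have hirr : Irreducible h₀ := by
      have hb : Function.Bijective (iterateFrobenius F p E) :=
        (Finite.injective_iff_bijective).1 (iterateFrobenius F p E).injective
      exact (MulEquiv.irreducible_iff (Polynomial.mapEquiv (RingEquiv.ofBijective _ hb))).2 hf
    have hlc : IsUnit (C h₀.leadingCoeff⁻¹) :=
      isUnit_C.2 (isUnit_iff_ne_zero.2 (inv_ne_zero (leadingCoeff_ne_zero.2 hirr.ne_zero)))
    have hse : (s.1 : Matrix (Fin n) (Fin n) F) * e = e * (s.1 : Matrix (Fin n) (Fin n) F) := by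
      rw [hsdef, coe_pow']; exact (Commute.pow_left hge _).eq
    obtain ⟨d, hd⟩ := scalar_of_primary hF s (h := h₀ * C h₀.leadingCoeff⁻¹)
      ((irreducible_mul_isUnit hlc).2 hirr) (monic_mul_leadingCoeff_inv hirr.ne_zero) e he he0 hse
      (by rw [mul_comm h₀, map_mul, mul_assoc, hs₀, mul_zero]) hcase
    have hpchar : CharP F p := inferInstance
    obtain ⟨p', a, hp', hc', hqp⟩ := exists_p hF
    obtain rfl : p' = p := CharP.eq F hc' hpchar
    refine dvd_trans ?_ (Nat.lcm_dvd (Nat.dvd_lcm_left _ _) (hc.trans (Nat.dvd_lcm_right _ _)))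
    rw [Nat.Coprime.lcm_eq_mul ((torusD_coprime hF hp' hqp (by omega)).pow_left E)]
    apply orderOf_dvd_of_pow_eq_one
    refine (map_pow proj g _).symm.trans (proj_eq_one_of_scalar _ d ?_)
    rw [pow_mul, coe_pow', ← hsdef]
    exact hd

end Cfsg.Agent.Spec.Unitary
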