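import Cfsg.Agent.Spec.UnitaryBasic

/-!
Elements of prescribed order in the special unitary group: a torus element and unipotents.
-/

set_option autoImplicit false
set_option linter.style.haveILetI false

open Matrix

namespace Cfsg.Agent.Spec.Unitary

variable {F : Type*} [Field F] [Fintype F] {n q : ℕ}

local notation "M" => Matrix (Fin n) (Fin n) F

variable (hF : Fintype.card F = q ^ 2)

theorem pow_pow_eq_self {K : Type*} [Monoid K] {b : K} {m : ℕ} (h : b ^ m = b) (i : ℕ) :
    b ^ m ^ i = b := by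
  induction i with
  | zero => simp
  | succ i ih => rw [pow_succ, pow_mul, ih, h]

/-- From a realisation, read off the order in `PSU`. -/
theorem orderOf_proj_dvd_of_scalar {m : ℕ} (hn : 3 ≤ n) (g : Cfsg.SU n F q)
    (h : ∀ (j : ℕ) (c : F), (g.1 : M) ^ j = c • 1 → m ∣ j) (hF : Fintype.card F = q ^ 2) :
    m ∣ orderOf (proj g) := by
  obtain ⟨c, hc⟩ := scalar_of_proj_eq_one hF hn (g ^ orderOf (proj g))
    ((map_pow proj g _).trans (pow_orderOf_eq_one _))
  refine h _ c ?_
  rw [← hc]
  exact (Matrix.SpecialLinearGroup.coe_pow g.1 _).symm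

section Torus

variable {K : Type*} [Field K] [Algebra F K] [Finite K]

include hF in
theorem pow_natCast_conj (c : F) (k : ℕ) :
    c ^ (q ^ k) = if Odd k then c ^ q else c := by
  induction k with
  | zero => simp
  | succ k ih =>
    rw [pow_succ, pow_mul, ih]
    rcases Nat.even_or_odd k with hk | hk
    · rw [if_neg (Nat.not_odd_iff_even.2 hk), if_pos hk.add_one]
    · rw [if_pos hk, if_neg (Nat.not_odd_iff_even.2 hk.add_one), pow_q_pow_q hF]

/-- `x ↦ x ^ (q ^ k)` on an extension field. -/
noncomputable def frobPow (hF : Fintype.card F = q ^ 2) (K : Type*) [Field K] [Algebra F K]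
    (k : ℕ) : K →+* K where
  toFun x := x ^ (q ^ k)
  map_one' := one_pow _
  map_mul' x y := mul_pow x y _
  map_zero' := zero_pow (pow_ne_zero k (by have := two_le_q hF; omega))
  map_add' x y := by
    obtain ⟨p, a, hp, hc, hq⟩ := exists_p hF
    haveI := hc
    haveI : CharP K p := charP_of_injective_algebraMap (algebraMap F K).injective p
    haveI := Fact.mk hp
    rw [hq, ← pow_mul, add_pow_char_pow]

omit [Finite K] in
theorem frobPow_apply (k : ℕ) (x : K) : frobPow hF K k x = x ^ (q ^ k) := rfl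

omit [Finite K] in
theorem frobPow_algebraMap {k : ℕ} (hk : Odd k) (c : F) :
    frobPow hF K k (algebraMap F K c) = algebraMap F K (conjHom hF c) := by
  rw [frobPow_apply, conjHom_apply, ← map_pow, pow_natCast_conj hF, if_pos hk]

omit [Finite K] in
theorem frobPow_smul {k : ℕ} (hk : Odd k) (c : F) (x : K) :
    frobPow hF K k (c • x) = conjHom hF c • frobPow hF K k x := by
  rw [Algebra.smul_def, map_mul, frobPow_algebraMap hF hk, ← Algebra.smul_def]

include hF in
theorem frobPow_add_finrank {d : ℕ} (hd : Module.finrank F K = d) (x : K) (k : ℕ) :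
    x ^ (q ^ (2 * d + k)) = x ^ (q ^ k) := by
  haveI := Fintype.ofFinite K
  rw [pow_add, pow_mul q 2 d, ← hF, ← hd, ← Module.card_eq_pow_finrank (K := F) (V := K), pow_mul,
    FiniteField.pow_card]

include hF in
theorem trace_pow_sq (x : K) :
    Algebra.trace F K (x ^ (q ^ 2)) = Algebra.trace F K x := by
  haveI := Fintype.ofFinite K
  have h := Algebra.trace_eq_of_algEquiv (FiniteField.frobeniusAlgEquivOfAlgebraic F K) x
  rw [← hF]
  simpa using h

theorem trace_frobPow {k : ℕ} (hk : Odd k) (x : K) :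
    Algebra.trace F K (frobPow hF K k x) = conjHom hF (Algebra.trace F K x) := by
  apply (algebraMap F K).injective
  rw [← frobPow_algebraMap hF hk, FiniteField.algebraMap_trace_eq_sum_pow,
    FiniteField.algebraMap_trace_eq_sum_pow, map_sum]
  simp only [frobPow_apply, ← pow_mul, mul_comm]

theorem exists_trace_mul_ne_zero {a : K} (ha : a ≠ 0) : ∃ y : K, Algebra.trace F K (a * y) ≠ 0 := by
  obtain ⟨w, hw⟩ := Algebra.trace_surjective F K 1
  exact ⟨a⁻¹ * w, by rw [← mul_assoc, mul_inv_cancel₀ ha, one_mul, hw]; exact one_ne_zero⟩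

end Torus

/-- The torus order `(q^n - (-1)^n)/(q+1)`. -/
def torusD (n q : ℕ) : ℕ := (if Odd n then q ^ n + 1 else q ^ n - 1) / (q + 1)

theorem torusD_mul (hq : 1 ≤ q) : torusD n q * (q + 1) = if Odd n then q ^ n + 1 else q ^ n - 1 := by
  apply Nat.div_mul_cancel
  split_ifs with h
  · simpa using h.nat_add_dvd_pow_add_pow q 1
  · obtain ⟨l, rfl⟩ := Nat.not_odd_iff_even.1 h
    rw [← two_mul, pow_mul]
    refine Dvd.dvd.trans ?_ (Nat.sub_one_dvd_pow_sub_one (q ^ 2) l)
    exact ⟨q - 1, by simpa using Nat.sq_sub_sq q 1⟩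

include hF in
theorem exists_torus (hn : 3 ≤ n) : ∃ c : Cfsg.SU n F q,
    torusD n q / Nat.gcd (torusD n q) (q + 1) ∣ orderOf (proj c) := by
  classical
  have hq2 := two_le_q hF
  obtain ⟨p, a, hp, hc, hqp⟩ := exists_p hF
  haveI := hc
  haveI := Fact.mk hp
  set D := torusD n q with hD
  have hDq : D * (q + 1) = if Odd n then q ^ n + 1 else q ^ n - 1 := torusD_mul (by omega)
  have hdiv : ∀ j : ℕ, D ∣ j * (q + 1) → D / Nat.gcd D (q + 1) ∣ j := by
    intro j hj
    rcases Nat.eq_zero_or_pos D with h0 | h0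
    · rw [h0] at hj ⊢
      simp at hj ⊢
      exact hj
    have hg : 0 < Nat.gcd D (q + 1) := Nat.gcd_pos_of_pos_left _ h0
    refine (Nat.coprime_div_gcd_div_gcd hg).dvd_of_dvd_mul_right ?_
    rw [← Nat.mul_div_assoc j (Nat.gcd_dvd_right D (q + 1))]
    exact Nat.div_dvd_div (Nat.gcd_dvd_left _ _) hj
  suffices h : ∃ g : Cfsg.SU n F q, ∀ (j : ℕ) (c : F), (g.1 : M) ^ j = c • 1 → D ∣ j * (q + 1) by
    obtain ⟨g, hg⟩ := h
    exact ⟨g, orderOf_proj_dvd_of_scalar hn g (fun j c hjc => hdiv j (hg j c hjc)) hF⟩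
  rcases Nat.even_or_odd n with hev | hodd
  · -- `n` even
    obtain ⟨l, hl⟩ := hev
    rw [← two_mul] at hl
    subst hl
    haveI : NeZero l := ⟨by omega⟩
    let K := FiniteField.Extension F p l
    haveI : Finite K := Module.finite_of_finite F
    have hKd : Module.finrank F K = l := FiniteField.finrank_extension F p l
    rw [if_neg (Nat.not_odd_iff_even.2 ⟨l, two_mul l⟩)] at hDq
    obtain ⟨θu, hθu⟩ : ∃ u : Kˣ, orderOf u = D := by
      obtain ⟨g, hg⟩ := IsCyclic.exists_ofOrder_eq_natCard (α := Kˣ)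
      rw [Nat.card_units, FiniteField.natCard_extension, Nat.card_eq_fintype_card, hF, ← pow_mul] at hg
      refine ⟨g ^ (q + 1), ?_⟩
      rw [orderOf_pow' g (by omega), hg, ← hDq, Nat.gcd_eq_right (Dvd.intro_left D rfl),
        Nat.mul_div_cancel _ (by omega)]
    set θ : K := (θu : K)
    have hθ0 : θ ≠ 0 := θu.ne_zero
    set e := 2 * l - 1 with he
    have heodd : Odd e := ⟨l - 1, by omega⟩
    set φ : K := (θ ^ (q ^ e))⁻¹ with hφdef
    have hφq : θ * φ ^ q = 1 := by
      rw [hφdef, inv_pow, ← pow_mul, ← pow_succ, show e + 1 = 2 * l + 0 by omega,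
        frobPow_add_finrank hF hKd, pow_zero, pow_one, mul_inv_cancel₀ hθ0]
    have hφe : θ ^ (q ^ e) * φ = 1 := mul_inv_cancel₀ (pow_ne_zero _ hθ0)
    let B : (K × K) →ₛₗ[conjHom hF] (K × K) →ₗ[F] F :=
      LinearMap.mk₂'ₛₗ (conjHom hF) (RingHom.id F)
        (fun v w => Algebra.trace F K (frobPow hF K 1 v.2 * w.1) +
          Algebra.trace F K (frobPow hF K e v.1 * w.2))
        (fun v v' w => by simp only [Prod.fst_add, Prod.snd_add, map_add, add_mul]; abel)
        (fun c v w => by
          simp only [Prod.smul_fst, Prod.smul_snd, frobPow_smul hF odd_one, frobPow_smul hF heodd,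
            smul_mul_assoc, map_smul, smul_add])
        (fun v w w' => by simp only [Prod.fst_add, Prod.snd_add, mul_add, map_add]; abel)
        (fun c v w => by
          simp only [Prod.smul_fst, Prod.smul_snd, mul_smul_comm, map_smul, smul_add,
            RingHom.id_apply])
    have hB : ∀ v w, B v w = Algebra.trace F K (frobPow hF K 1 v.2 * w.1) +
        Algebra.trace F K (frobPow hF K e v.1 * w.2) := fun v w => rfl
    have hsymm : B.IsSymm := by
      refine ⟨fun v w => ?_⟩
      have key : ∀ x y : K, conjHom hF (Algebra.trace F K (frobPow hF K 1 x * y)) =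
          Algebra.trace F K (frobPow hF K e y * x) := by
        intro x y
        rw [← trace_pow_sq hF (frobPow hF K e y * x), ← trace_frobPow hF odd_one, mul_pow,
          map_mul]
        simp only [frobPow_apply, ← pow_mul, ← pow_add, pow_one]
        rw [show e + 2 = 2 * l + 1 by omega, frobPow_add_finrank hF hKd, pow_one, ← pow_two,
          mul_comm]
      rw [hB, hB, map_add, key v.2 w.1, ← key w.2 v.1, conjHom_conjHom, add_comm]
    have hsep : B.SeparatingLeft := by
      intro v hv
      by_contra hne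
      rcases em (v.2 = 0) with h2 | h2
      · have h1 : v.1 ≠ 0 := fun h1 => hne (Prod.ext h1 h2)
        obtain ⟨y, hy⟩ := exists_trace_mul_ne_zero (F := F) (map_ne_zero (frobPow hF K e) |>.2 h1)
        exact hy (by simpa [hB] using hv (0, y))
      · obtain ⟨y, hy⟩ := exists_trace_mul_ne_zero (F := F) (map_ne_zero (frobPow hF K 1) |>.2 h2)
        exact hy (by simpa [hB] using hv (y, 0))
    let f : (K × K) →ₗ[F] (K × K) :=
      LinearMap.prodMap (LinearMap.mulLeft F θ) (LinearMap.mulLeft F φ)
    have hfiso : ∀ v w, B (f v) (f w) = B v w := by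
      intro v w
      simp only [hB, f, LinearMap.prodMap_apply, LinearMap.mulLeft_apply, map_mul]
      simp only [frobPow_apply, pow_one]
      rw [show φ ^ q * v.2 ^ q * (θ * w.1) = (θ * φ ^ q) * (v.2 ^ q * w.1) by ring,
        show θ ^ q ^ e * v.1 ^ q ^ e * (φ * w.2) = (θ ^ q ^ e * φ) * (v.1 ^ q ^ e * w.2) by ring,
        hφq, hφe, one_mul, one_mul]
    have hdet : LinearMap.det f = 1 := by
      rw [LinearMap.det_prodMap]
      show Algebra.norm F θ * Algebra.norm F φ = 1
      rw [← map_mul]
      apply (algebraMap F K).injective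
      rw [FiniteField.algebraMap_norm_eq_pow, map_one, FiniteField.natCard_extension,
        Nat.card_eq_fintype_card, hF, hφdef, mul_pow, inv_pow]
      set S := ((q ^ 2) ^ l - 1) / (q ^ 2 - 1) with hS
      have hsq : q ^ 2 - 1 = (q + 1) * (q - 1) := by simpa using Nat.sq_sub_sq q 1
      have hSmul : S * (q ^ 2 - 1) = (q ^ 2) ^ l - 1 := Nat.div_mul_cancel (Nat.sub_one_dvd_pow_sub_one _ _)
      have hSD : S * (q - 1) = D := by
        apply Nat.eq_of_mul_eq_mul_right (show 0 < q + 1 by omega)
        rw [hDq, pow_mul, ← hSmul, hsq]; ring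
      -- `θ ^ S` lies in the fixed field of the square of Frobenius
      have hfix : (θ ^ S) ^ (q ^ 2) = θ ^ S := by
        rw [← pow_mul, show S * q ^ 2 = S * (q ^ 2 - 1) + S by
          rw [← Nat.mul_succ, Nat.succ_eq_add_one, Nat.sub_add_cancel (Nat.one_le_pow _ _ (by omega))],
          pow_add, hSmul, ← hF, ← Nat.card_eq_fintype_card, ← FiniteField.natCard_extension F p l]
        haveI := Fintype.ofFinite K
        rw [Nat.card_eq_fintype_card, FiniteField.pow_card_sub_one_eq_one θ hθ0, one_mul]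
      have hθe : (θ ^ q ^ e) ^ S = (θ ^ S) ^ q := by
        rw [pow_right_comm, he]
        obtain ⟨l', rfl⟩ : ∃ l', l = l' + 1 := ⟨l - 1, by omega⟩
        rw [show 2 * (l' + 1) - 1 = 2 * l' + 1 by omega, pow_succ, pow_mul, pow_mul]
        congr 1
        exact pow_pow_eq_self hfix l'
      rw [hθe]
      have h1 : (θ ^ S) ^ (q - 1) = 1 := by
        rw [← pow_mul, hSD, ← hθu, ← Units.val_pow_eq_pow_val, pow_orderOf_eq_one, Units.val_one]
      have h2 : (θ ^ S) ^ q = θ ^ S := by
        conv_lhs => rw [show q = (q - 1) + 1 by omega]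
        rw [pow_succ, h1, one_mul]
      rw [h2, mul_inv_cancel₀ (pow_ne_zero _ hθ0)]
    obtain ⟨g, hg⟩ := realise hF (n := 2 * l) (by rw [Module.finrank_prod, hKd]; omega) B hsymm hsep f
      hfiso hdet
    refine ⟨g, fun j c hjc => ?_⟩
    have h := (hg j c).1 hjc
    have h1 := congrArg Prod.fst (LinearMap.congr_fun h ((1 : K), (0 : K)))
    have h2 := congrArg Prod.snd (LinearMap.congr_fun h ((0 : K), (1 : K)))
    have hfj : ∀ (i : ℕ) (v : K × K), (f ^ i) v = (θ ^ i * v.1, φ ^ i * v.2) := by
      intro i v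
      induction i with
      | zero => simp
      | succ i ih =>
        rw [pow_succ', Module.End.mul_apply, ih]
        simp [f, pow_succ', mul_assoc]
    rw [hfj] at h1 h2
    simp at h1 h2
    -- `θ ^ j = c = φ ^ j`
    rw [← Algebra.algebraMap_eq_smul_one] at h1 h2
    have h4 : (θ ^ j) ^ q * θ ^ j = 1 := by
      rw [h1, ← h2, ← pow_mul, mul_comm j q, pow_mul, mul_comm, h2, ← h1, ← mul_pow, hφq, one_pow]
    rw [← hθu, orderOf_dvd_iff_pow_eq_one]
    apply Units.ext
    rw [Units.val_pow_eq_pow_val, pow_mul, pow_succ, h4, Units.val_one]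
  · -- `n` odd
    haveI : NeZero n := ⟨by omega⟩
    let K := FiniteField.Extension F p n
    haveI : Finite K := Module.finite_of_finite F
    have hKd : Module.finrank F K = n := FiniteField.finrank_extension F p n
    rw [if_pos hodd] at hDq
    have hsq' : (q ^ 2) ^ n - 1 = (q ^ n + 1) * (q ^ n - 1) := by
      rw [← pow_mul, mul_comm, pow_mul]; simpa using Nat.sq_sub_sq (q ^ n) 1
    obtain ⟨θu, hθu⟩ : ∃ u : Kˣ, orderOf u = D := by
      obtain ⟨g, hg⟩ := IsCyclic.exists_ofOrder_eq_natCard (α := Kˣ)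
      rw [Nat.card_units, FiniteField.natCard_extension, Nat.card_eq_fintype_card, hF, hsq', ← hDq] at hg
      have hpos : 0 < (q + 1) * (q ^ n - 1) := by
        have : 2 ≤ q ^ n := hq2.trans (Nat.le_self_pow (by omega) q)
        refine Nat.mul_pos (by omega) (by omega)
      refine ⟨g ^ ((q + 1) * (q ^ n - 1)), ?_⟩
      rw [orderOf_pow' g hpos.ne', hg, mul_assoc, Nat.gcd_eq_right (Dvd.intro_left D rfl),
        Nat.mul_div_cancel _ hpos]
    set θ : K := (θu : K)
    have hθ0 : θ ≠ 0 := θu.ne_zero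
    have hθD : θ ^ D = 1 := by
      rw [← hθu, ← Units.val_pow_eq_pow_val, pow_orderOf_eq_one, Units.val_one]
    have hθn : θ ^ q ^ n * θ = 1 := by
      rw [← pow_succ, ← hDq, pow_mul, hθD, one_pow]
    let B : K →ₛₗ[conjHom hF] K →ₗ[F] F :=
      LinearMap.mk₂'ₛₗ (conjHom hF) (RingHom.id F)
        (fun v w => Algebra.trace F K (frobPow hF K n v * w))
        (fun v v' w => by simp only [map_add, add_mul])
        (fun c v w => by simp only [frobPow_smul hF hodd, smul_mul_assoc, map_smul])
        (fun v w w' => by simp only [mul_add, map_add])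
        (fun c v w => by simp only [mul_smul_comm, map_smul, RingHom.id_apply])
    have hB : ∀ v w, B v w = Algebra.trace F K (frobPow hF K n v * w) := fun v w => rfl
    have hsymm : B.IsSymm := by
      refine ⟨fun v w => ?_⟩
      rw [hB, hB, ← trace_frobPow hF hodd, map_mul]
      simp only [frobPow_apply, ← pow_mul, ← pow_add]
      rw [show n + n = 2 * n + 0 by omega, frobPow_add_finrank hF hKd, pow_zero, pow_one, mul_comm]
    have hsep : B.SeparatingLeft := by
      intro v hv
      by_contra hne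
      obtain ⟨y, hy⟩ := exists_trace_mul_ne_zero (F := F) (map_ne_zero (frobPow hF K n) |>.2 hne)
      exact hy (hv y)
    have hfiso : ∀ v w, B (LinearMap.mulLeft F θ v) (LinearMap.mulLeft F θ w) = B v w := by
      intro v w
      simp only [hB, LinearMap.mulLeft_apply, map_mul, frobPow_apply]
      rw [show θ ^ q ^ n * v ^ q ^ n * (θ * w) = (θ ^ q ^ n * θ) * (v ^ q ^ n * w) by ring, hθn,
        one_mul]
    have hdet : LinearMap.det (LinearMap.mulLeft F θ) = 1 := by
      show Algebra.norm F θ = 1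
      apply (algebraMap F K).injective
      rw [FiniteField.algebraMap_norm_eq_pow, map_one, FiniteField.natCard_extension,
        Nat.card_eq_fintype_card, hF]
      set S := ((q ^ 2) ^ n - 1) / (q ^ 2 - 1) with hS
      obtain ⟨R, hR⟩ : q - 1 ∣ q ^ n - 1 := Nat.sub_one_dvd_pow_sub_one q n
      have hSR : S = D * R := by
        rw [hS]
        refine Nat.div_eq_of_eq_mul_left ?_ ?_
        · have : 2 ≤ q ^ 2 := hq2.trans (Nat.le_self_pow two_ne_zero q)
          omega
        · rw [hsq', ← hDq, hR, show q ^ 2 - 1 = (q + 1) * (q - 1) by simpa using Nat.sq_sub_sq q 1]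
          ring
      rw [hSR, pow_mul, hθD, one_pow]
    obtain ⟨g, hg⟩ := realise hF hKd B hsymm hsep _ hfiso hdet
    refine ⟨g, fun j c hjc => ?_⟩
    have h := LinearMap.congr_fun ((hg j c).1 hjc) 1
    have hfj : ∀ v : K, ((LinearMap.mulLeft F θ) ^ j) v = θ ^ j * v := by
      intro v
      rw [LinearMap.pow_mulLeft, LinearMap.mulLeft_apply]
    rw [hfj] at h
    simp at h
    rw [← Algebra.algebraMap_eq_smul_one] at h
    have h4 : (θ ^ j) ^ q * θ ^ j = 1 := by
      rw [h, ← map_pow, ← map_mul]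
      have h5 : (θ ^ j) ^ (q ^ n) * θ ^ j = 1 := by
        rw [← pow_mul, mul_comm j, pow_mul, ← mul_pow, hθn, one_pow]
      rw [h, ← map_pow, ← map_mul, pow_natCast_conj hF, if_pos hodd] at h5
      exact h5
    rw [← hθu, orderOf_dvd_iff_pow_eq_one]
    apply Units.ext
    rw [Units.val_pow_eq_pow_val, pow_mul, pow_succ, h4, Units.val_one]

end Cfsg.Agent.Spec.Unitary
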