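import Mathlib

/-! Explicit data for the Sylow 2-subgroups of `A_6`. -/

set_option autoImplicit false

namespace Cfsg.Agent.Spec.AltSixSylow

open Equiv

/-- A permutation from two tables. -/
def pm (a b : Fin 6 → Fin 6) (h : (∀ i, b (a i) = i) ∧ ∀ i, a (b i) = i) : Perm (Fin 6) :=
  ⟨a, b, h.1, h.2⟩

/-- The elements of a Sylow 2-subgroup. -/
def u0 : List (Perm (Fin 6)) := [
  pm ![0,1,2,3,4,5] ![0,1,2,3,4,5] (by decide),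
  pm ![0,3,2,1,5,4] ![0,3,2,1,5,4] (by decide),
  pm ![1,0,3,2,4,5] ![1,0,3,2,4,5] (by decide),
  pm ![1,2,3,0,5,4] ![3,0,1,2,5,4] (by decide),
  pm ![2,1,0,3,5,4] ![2,1,0,3,5,4] (by decide),
  pm ![2,3,0,1,4,5] ![2,3,0,1,4,5] (by decide),
  pm ![3,0,1,2,5,4] ![1,2,3,0,5,4] (by decide),
  pm ![3,2,1,0,4,5] ![3,2,1,0,4,5] (by decide)]

/-- Representatives of the cosets of the Sylow 2-subgroup. -/
def rep : Fin 45 → Perm (Fin 6) := ![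
  pm ![0,1,2,3,4,5] ![0,1,2,3,4,5] (by decide),
  pm ![0,1,2,4,5,3] ![0,1,2,5,3,4] (by decide),
  pm ![0,1,2,5,3,4] ![0,1,2,4,5,3] (by decide),
  pm ![0,1,3,2,5,4] ![0,1,3,2,5,4] (by decide),
  pm ![0,1,3,4,2,5] ![0,1,4,2,3,5] (by decide),
  pm ![0,1,3,5,4,2] ![0,1,5,2,4,3] (by decide),
  pm ![0,1,4,2,3,5] ![0,1,3,4,2,5] (by decide),
  pm ![0,1,4,3,5,2] ![0,1,5,3,2,4] (by decide),
  pm ![0,1,4,5,2,3] ![0,1,4,5,2,3] (by decide),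
  pm ![0,1,5,2,4,3] ![0,1,3,5,4,2] (by decide),
  pm ![0,1,5,3,2,4] ![0,1,4,3,5,2] (by decide),
  pm ![0,1,5,4,3,2] ![0,1,5,4,3,2] (by decide),
  pm ![0,2,1,3,5,4] ![0,2,1,3,5,4] (by decide),
  pm ![0,2,1,4,3,5] ![0,2,1,4,3,5] (by decide),
  pm ![0,2,1,5,4,3] ![0,2,1,5,4,3] (by decide),
  pm ![0,2,3,4,5,1] ![0,5,1,2,3,4] (by decide),
  pm ![0,2,3,5,1,4] ![0,4,1,2,5,3] (by decide),
  pm ![0,2,4,3,1,5] ![0,4,1,3,2,5] (by decide),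
  pm ![0,2,4,5,3,1] ![0,5,1,4,2,3] (by decide),
  pm ![0,2,5,3,4,1] ![0,5,1,3,4,2] (by decide),
  pm ![0,2,5,4,1,3] ![0,4,1,5,3,2] (by decide),
  pm ![0,3,1,4,5,2] ![0,2,5,1,3,4] (by decide),
  pm ![0,3,1,5,2,4] ![0,2,4,1,5,3] (by decide),
  pm ![0,3,2,4,1,5] ![0,4,2,1,3,5] (by decide),
  pm ![0,3,2,5,4,1] ![0,5,2,1,4,3] (by decide),
  pm ![0,3,4,5,1,2] ![0,4,5,1,2,3] (by decide),
  pm ![0,3,5,4,2,1] ![0,5,4,1,3,2] (by decide),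
  pm ![0,4,1,5,3,2] ![0,2,5,4,1,3] (by decide),
  pm ![0,4,2,5,1,3] ![0,4,2,5,1,3] (by decide),
  pm ![0,4,3,5,2,1] ![0,5,4,2,1,3] (by decide),
  pm ![1,2,3,4,0,5] ![4,0,1,2,3,5] (by decide),
  pm ![1,2,3,5,4,0] ![5,0,1,2,4,3] (by decide),
  pm ![1,2,4,3,5,0] ![5,0,1,3,2,4] (by decide),
  pm ![1,2,4,5,0,3] ![4,0,1,5,2,3] (by decide),
  pm ![1,2,5,3,0,4] ![4,0,1,3,5,2] (by decide),
  pm ![1,2,5,4,3,0] ![5,0,1,4,3,2] (by decide),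
  pm ![1,3,2,4,5,0] ![5,0,2,1,3,4] (by decide),
  pm ![1,3,2,5,0,4] ![4,0,2,1,5,3] (by decide),
  pm ![1,3,4,5,2,0] ![5,0,4,1,2,3] (by decide),
  pm ![1,3,5,4,0,2] ![4,0,5,1,3,2] (by decide),
  pm ![1,4,2,5,3,0] ![5,0,2,4,1,3] (by decide),
  pm ![1,4,3,5,0,2] ![4,0,5,2,1,3] (by decide),
  pm ![2,3,4,5,0,1] ![4,5,0,1,2,3] (by decide),
  pm ![2,3,5,4,1,0] ![5,4,0,1,3,2] (by decide),
  pm ![2,4,3,5,1,0] ![5,4,0,2,1,3] (by decide)]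

theorem u0_closed : ∀ a ∈ u0, ∀ b ∈ u0, a * b ∈ u0 := by decide +kernel

theorem u0_inv : ∀ a ∈ u0, a⁻¹ ∈ u0 := by decide +kernel

theorem u0_one : (1 : Perm (Fin 6)) ∈ u0 := by decide +kernel

theorem u0_sign : ∀ a ∈ u0, Perm.sign a = 1 := by decide +kernel

theorem u0_nodup : u0.Nodup := by decide +kernel

theorem rep_sign : ∀ i, Perm.sign (rep i) = 1 := by decide +kernel

theorem rep_distinct : ∀ i j, (rep i)⁻¹ * rep j ∈ u0 → i = j := by decide +kernel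

/-- The coset indices giving conjugates meeting `u0` trivially. -/
theorem trivial_count :
    (Finset.univ.filter fun i => ∀ a ∈ u0, (rep i)⁻¹ * a * rep i ∈ u0 → a = 1).card ≤ 32 := by
  decide +kernel

theorem fixed_u0 : ∀ a ∈ u0, Equiv.swap (0 : Fin 6) 2 * a * Equiv.swap 0 2 ∈ u0 := by
  decide +kernel

theorem rep_one_trivial : ∀ a ∈ u0, (rep 1)⁻¹ * a * rep 1 ∈ u0 → a = 1 := by
  decide +kernel

theorem rep_one_fixed : ∀ a ∈ u0,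
    (rep 1)⁻¹ * (Equiv.swap (0 : Fin 6) 2 * (rep 1 * a * (rep 1)⁻¹) * Equiv.swap 0 2) * rep 1 ∈ u0 := by
  decide +kernel

end Cfsg.Agent.Spec.AltSixSylow
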