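import Mathlib

/-!
Certificates: in `SL₃(3)` each class representative is a product of two conjugates of a fixed
element of order four.
-/

set_option autoImplicit false

namespace Cfsg.Agent.Spec.Three

abbrev M3 := Matrix (Fin 3) (Fin 3) (ZMod 3)

def X : M3 := !![0, 0, 1; 0, 1, 0; 2, 0, 0]

structure Cert where
  g : M3
  u : M3
  u' : M3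
  v : M3
  v' : M3

def det3 (A : M3) : ZMod 3 :=
  A 0 0 * A 1 1 * A 2 2 - A 0 0 * A 1 2 * A 2 1 - A 0 1 * A 1 0 * A 2 2 +
    A 0 1 * A 1 2 * A 2 0 + A 0 2 * A 1 0 * A 2 1 - A 0 2 * A 1 1 * A 2 0

def Cert.ok (c : Cert) : Bool :=
  decide (c.u * c.u' = 1) && decide (c.v * c.v' = 1) && decide (det3 c.u = 1) &&
    decide (det3 c.v = 1) && decide (c.g = c.u * X * c.u' * (c.v * X * c.v'))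

def certs : List Cert := [
  ⟨!![0, 0, 1; 1, 0, 0; 0, 1, 0],
    !![0, 0, 1; 0, 1, 0; 2, 0, 0], !![0, 0, 2; 0, 1, 0; 1, 0, 0],
    !![0, 0, 1; 1, 0, 0; 0, 1, 0], !![0, 1, 0; 0, 0, 1; 1, 0, 0]⟩,
  ⟨!![0, 0, 1; 1, 0, 1; 0, 1, 0],
    !![0, 0, 1; 0, 1, 0; 2, 0, 0], !![0, 0, 2; 0, 1, 0; 1, 0, 0],
    !![0, 1, 1; 1, 2, 0; 0, 1, 0], !![0, 1, 1; 0, 0, 1; 1, 0, 2]⟩,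
  ⟨!![0, 0, 1; 1, 0, 2; 0, 1, 0],
    !![0, 0, 1; 0, 1, 0; 2, 0, 0], !![0, 0, 2; 0, 1, 0; 1, 0, 0],
    !![0, 2, 1; 1, 1, 0; 0, 1, 0], !![0, 1, 2; 0, 0, 1; 1, 0, 1]⟩,
  ⟨!![0, 0, 1; 1, 0, 0; 0, 1, 1],
    !![0, 0, 1; 0, 1, 0; 2, 0, 0], !![0, 0, 2; 0, 1, 0; 1, 0, 0],
    !![0, 1, 1; 1, 1, 0; 0, 1, 0], !![0, 1, 2; 0, 0, 1; 1, 0, 2]⟩,
  ⟨!![0, 0, 1; 1, 0, 1; 0, 1, 1],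
    !![0, 0, 1; 0, 1, 0; 2, 0, 0], !![0, 0, 2; 0, 1, 0; 1, 0, 0],
    !![0, 2, 1; 1, 0, 0; 0, 1, 0], !![0, 1, 0; 0, 0, 1; 1, 0, 1]⟩,
  ⟨!![0, 0, 1; 1, 0, 2; 0, 1, 1],
    !![0, 0, 1; 0, 1, 0; 2, 0, 0], !![0, 0, 2; 0, 1, 0; 1, 0, 0],
    !![0, 0, 1; 1, 2, 0; 0, 1, 0], !![0, 1, 1; 0, 0, 1; 1, 0, 0]⟩,
  ⟨!![0, 0, 1; 1, 0, 0; 0, 1, 2],
    !![0, 0, 1; 0, 1, 0; 2, 0, 0], !![0, 0, 2; 0, 1, 0; 1, 0, 0],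
    !![0, 2, 1; 1, 2, 0; 0, 1, 0], !![0, 1, 1; 0, 0, 1; 1, 0, 1]⟩,
  ⟨!![0, 0, 1; 1, 0, 1; 0, 1, 2],
    !![0, 0, 1; 0, 1, 0; 2, 0, 0], !![0, 0, 2; 0, 1, 0; 1, 0, 0],
    !![0, 0, 1; 1, 1, 0; 0, 1, 0], !![0, 1, 2; 0, 0, 1; 1, 0, 0]⟩,
  ⟨!![0, 0, 1; 1, 0, 2; 0, 1, 2],
    !![0, 0, 1; 0, 1, 0; 2, 0, 0], !![0, 0, 2; 0, 1, 0; 1, 0, 0],
    !![0, 1, 1; 1, 0, 0; 0, 1, 0], !![0, 1, 0; 0, 0, 1; 1, 0, 2]⟩,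
  ⟨!![0, 2, 0; 1, 0, 0; 0, 0, 1],
    !![0, 0, 1; 0, 1, 0; 2, 1, 0], !![0, 1, 2; 0, 1, 0; 1, 0, 0],
    !![0, 1, 1; 1, 1, 0; 1, 0, 1], !![1, 2, 2; 2, 2, 1; 2, 1, 2]⟩,
  ⟨!![0, 2, 0; 1, 0, 1; 0, 0, 1],
    !![0, 0, 1; 0, 1, 0; 2, 0, 2], !![2, 0, 2; 0, 1, 0; 1, 0, 0],
    !![0, 2, 1; 0, 0, 2; 1, 1, 2], !![1, 0, 1; 2, 2, 0; 0, 2, 0]⟩,
  ⟨!![0, 2, 0; 1, 0, 2; 0, 0, 1],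
    !![0, 0, 1; 0, 1, 1; 2, 0, 0], !![0, 0, 2; 2, 1, 0; 1, 0, 0],
    !![0, 1, 1; 0, 1, 2; 1, 2, 0], !![2, 2, 1; 2, 2, 0; 2, 1, 0]⟩,
  ⟨!![0, 2, 1; 1, 0, 0; 0, 0, 1],
    !![0, 0, 1; 0, 1, 0; 2, 0, 1], !![1, 0, 2; 0, 1, 0; 1, 0, 0],
    !![0, 0, 1; 1, 0, 0; 1, 1, 1], !![0, 1, 0; 2, 2, 1; 1, 0, 0]⟩,
  ⟨!![0, 2, 1; 1, 0, 1; 0, 0, 1],
    !![0, 0, 1; 0, 1, 0; 2, 0, 0], !![0, 0, 2; 0, 1, 0; 1, 0, 0],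
    !![0, 1, 1; 1, 0, 2; 1, 2, 0], !![2, 2, 2; 2, 2, 1; 2, 1, 2]⟩,
  ⟨!![0, 2, 1; 1, 0, 2; 0, 0, 1],
    !![0, 0, 1; 0, 1, 0; 2, 1, 0], !![0, 1, 2; 0, 1, 0; 1, 0, 0],
    !![0, 1, 1; 2, 1, 2; 2, 0, 2], !![2, 1, 1; 0, 1, 2; 1, 2, 1]⟩,
  ⟨!![0, 2, 2; 1, 0, 0; 0, 0, 1],
    !![0, 0, 1; 0, 1, 1; 2, 1, 1], !![0, 1, 2; 2, 1, 0; 1, 0, 0],
    !![0, 0, 1; 1, 2, 2; 1, 0, 1], !![2, 0, 1; 1, 2, 1; 1, 0, 0]⟩,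
  ⟨!![0, 2, 2; 1, 0, 1; 0, 0, 1],
    !![0, 0, 1; 0, 1, 0; 2, 1, 0], !![0, 1, 2; 0, 1, 0; 1, 0, 0],
    !![0, 1, 0; 1, 1, 1; 2, 0, 1], !![1, 2, 1; 1, 0, 0; 1, 2, 2]⟩,
  ⟨!![0, 2, 2; 1, 0, 2; 0, 0, 1],
    !![0, 0, 1; 0, 1, 0; 2, 2, 1], !![1, 2, 2; 0, 1, 0; 1, 0, 0],
    !![0, 0, 1; 0, 2, 1; 1, 1, 1], !![1, 1, 1; 1, 2, 0; 1, 0, 0]⟩,
  ⟨!![0, 2, 0; 1, 1, 0; 0, 0, 1],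
    !![0, 0, 1; 0, 1, 0; 2, 1, 1], !![1, 1, 2; 0, 1, 0; 1, 0, 0],
    !![0, 0, 1; 2, 2, 1; 1, 0, 1], !![2, 0, 1; 2, 2, 2; 1, 0, 0]⟩,
  ⟨!![0, 2, 0; 1, 1, 1; 0, 0, 1],
    !![0, 0, 1; 0, 1, 0; 2, 0, 0], !![0, 0, 2; 0, 1, 0; 1, 0, 0],
    !![0, 1, 1; 0, 1, 2; 1, 2, 0], !![2, 2, 1; 2, 2, 0; 2, 1, 0]⟩,
  ⟨!![0, 2, 0; 1, 1, 2; 0, 0, 1],
    !![0, 0, 1; 0, 1, 0; 2, 2, 0], !![0, 2, 2; 0, 1, 0; 1, 0, 0],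
    !![0, 2, 1; 1, 2, 2; 0, 2, 2], !![0, 1, 2; 1, 0, 1; 2, 0, 1]⟩,
  ⟨!![0, 2, 1; 1, 1, 0; 0, 0, 1],
    !![0, 0, 1; 0, 1, 0; 2, 2, 1], !![1, 2, 2; 0, 1, 0; 1, 0, 0],
    !![0, 0, 1; 2, 0, 1; 1, 2, 1], !![1, 2, 0; 2, 2, 2; 1, 0, 0]⟩,
  ⟨!![0, 2, 1; 1, 1, 1; 0, 0, 1],
    !![0, 0, 1; 0, 1, 0; 2, 0, 2], !![2, 0, 2; 0, 1, 0; 1, 0, 0],
    !![0, 2, 1; 1, 1, 1; 1, 1, 2], !![1, 0, 1; 2, 2, 1; 0, 2, 1]⟩,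
  ⟨!![0, 2, 1; 1, 1, 2; 0, 0, 1],
    !![0, 0, 1; 0, 1, 0; 2, 1, 1], !![1, 1, 2; 0, 1, 0; 1, 0, 0],
    !![0, 0, 1; 2, 2, 2; 1, 0, 1], !![2, 0, 1; 0, 2, 2; 1, 0, 0]⟩,
  ⟨!![0, 2, 2; 1, 1, 0; 0, 0, 1],
    !![0, 0, 1; 0, 1, 0; 2, 0, 1], !![1, 0, 2; 0, 1, 0; 1, 0, 0],
    !![0, 0, 1; 2, 1, 1; 1, 1, 1], !![0, 1, 2; 2, 2, 2; 1, 0, 0]⟩,
  ⟨!![0, 2, 2; 1, 1, 1; 0, 0, 1],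
    !![0, 0, 1; 0, 1, 0; 2, 1, 1], !![1, 1, 2; 0, 1, 0; 1, 0, 0],
    !![0, 0, 1; 2, 2, 0; 1, 0, 1], !![2, 0, 1; 1, 2, 2; 1, 0, 0]⟩,
  ⟨!![0, 2, 2; 1, 1, 2; 0, 0, 1],
    !![0, 0, 1; 0, 1, 0; 2, 1, 2], !![2, 1, 2; 0, 1, 0; 1, 0, 0],
    !![0, 2, 1; 1, 1, 2; 0, 2, 2], !![1, 1, 0; 1, 0, 1; 2, 0, 1]⟩,
  ⟨!![0, 2, 0; 1, 2, 0; 0, 0, 1],
    !![0, 0, 1; 0, 1, 2; 2, 0, 0], !![0, 0, 2; 1, 1, 0; 1, 0, 0],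
    !![0, 1, 1; 0, 1, 2; 1, 2, 0], !![2, 2, 1; 2, 2, 0; 2, 1, 0]⟩,
  ⟨!![0, 2, 0; 1, 2, 1; 0, 0, 1],
    !![0, 0, 1; 0, 1, 0; 2, 0, 1], !![1, 0, 2; 0, 1, 0; 1, 0, 0],
    !![0, 0, 1; 0, 2, 2; 1, 1, 1], !![0, 1, 1; 2, 2, 0; 1, 0, 0]⟩,
  ⟨!![0, 2, 0; 1, 2, 2; 0, 0, 1],
    !![0, 0, 1; 0, 1, 1; 2, 0, 1], !![1, 0, 2; 2, 1, 0; 1, 0, 0],
    !![0, 0, 1; 0, 2, 2; 1, 1, 1], !![0, 1, 1; 2, 2, 0; 1, 0, 0]⟩,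
  ⟨!![0, 2, 1; 1, 2, 0; 0, 0, 1],
    !![0, 0, 1; 0, 1, 0; 2, 1, 0], !![0, 1, 2; 0, 1, 0; 1, 0, 0],
    !![0, 1, 1; 2, 2, 2; 2, 1, 2], !![2, 2, 0; 0, 1, 2; 1, 2, 1]⟩,
  ⟨!![0, 2, 1; 1, 2, 1; 0, 0, 1],
    !![0, 0, 1; 0, 1, 0; 2, 2, 0], !![0, 2, 2; 0, 1, 0; 1, 0, 0],
    !![0, 2, 1; 0, 0, 1; 2, 1, 0], !![2, 1, 2; 2, 1, 0; 0, 1, 0]⟩,
  ⟨!![0, 2, 1; 1, 2, 2; 0, 0, 1],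
    !![0, 0, 1; 1, 0, 0; 1, 1, 1], !![0, 1, 0; 2, 2, 1; 1, 0, 0],
    !![0, 1, 1; 2, 0, 0; 2, 0, 1], !![0, 2, 0; 1, 1, 2; 0, 2, 1]⟩,
  ⟨!![0, 2, 2; 1, 2, 0; 0, 0, 1],
    !![0, 0, 1; 0, 1, 0; 2, 0, 0], !![0, 0, 2; 0, 1, 0; 1, 0, 0],
    !![0, 1, 1; 2, 2, 2; 1, 2, 0], !![2, 2, 0; 2, 2, 2; 2, 1, 1]⟩,
  ⟨!![0, 2, 2; 1, 2, 1; 0, 0, 1],
    !![0, 0, 1; 1, 0, 0; 2, 1, 2], !![0, 1, 0; 1, 1, 1; 1, 0, 0],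
    !![0, 2, 1; 2, 0, 0; 1, 0, 2], !![0, 2, 0; 2, 2, 2; 0, 2, 2]⟩,
  ⟨!![0, 2, 2; 1, 2, 2; 0, 0, 1],
    !![0, 0, 1; 0, 1, 0; 2, 0, 2], !![2, 0, 2; 0, 1, 0; 1, 0, 0],
    !![0, 2, 1; 2, 2, 0; 1, 1, 2], !![1, 0, 1; 2, 2, 2; 0, 2, 2]⟩,
  ⟨!![0, 1, 0; 1, 0, 0; 0, 0, 2],
    !![0, 0, 1; 0, 1, 2; 2, 0, 0], !![0, 0, 2; 1, 1, 0; 1, 0, 0],
    !![0, 2, 1; 0, 2, 2; 2, 2, 0], !![2, 2, 2; 1, 1, 0; 2, 1, 0]⟩,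
  ⟨!![0, 1, 0; 1, 0, 1; 0, 0, 2],
    !![0, 0, 1; 0, 1, 0; 2, 2, 1], !![1, 2, 2; 0, 1, 0; 1, 0, 0],
    !![0, 1, 1; 2, 2, 1; 2, 1, 1], !![1, 0, 2; 0, 1, 2; 1, 2, 1]⟩,
  ⟨!![0, 1, 0; 1, 0, 2; 0, 0, 2],
    !![0, 0, 1; 0, 1, 0; 2, 0, 1], !![1, 0, 2; 0, 1, 0; 1, 0, 0],
    !![0, 1, 1; 0, 0, 2; 2, 1, 1], !![1, 0, 2; 1, 1, 0; 0, 2, 0]⟩,
  ⟨!![0, 1, 1; 1, 0, 0; 0, 0, 2],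
    !![0, 0, 1; 0, 1, 0; 2, 0, 2], !![2, 0, 2; 0, 1, 0; 1, 0, 0],
    !![0, 0, 1; 1, 0, 0; 2, 1, 2], !![0, 1, 0; 1, 1, 1; 1, 0, 0]⟩,
  ⟨!![0, 1, 1; 1, 0, 1; 0, 0, 2],
    !![0, 0, 1; 1, 0, 0; 2, 1, 2], !![0, 1, 0; 1, 1, 1; 1, 0, 0],
    !![0, 1, 1; 1, 0, 0; 2, 0, 2], !![0, 1, 0; 1, 1, 1; 0, 2, 2]⟩,
  ⟨!![0, 1, 1; 1, 0, 2; 0, 0, 2],
    !![0, 0, 1; 0, 1, 0; 2, 0, 0], !![0, 0, 2; 0, 1, 0; 1, 0, 0],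
    !![0, 2, 1; 1, 0, 2; 2, 2, 0], !![2, 2, 1; 1, 1, 1; 2, 1, 1]⟩,
  ⟨!![0, 1, 2; 1, 0, 0; 0, 0, 2],
    !![0, 0, 1; 0, 1, 0; 2, 1, 2], !![2, 1, 2; 0, 1, 0; 1, 0, 0],
    !![0, 1, 1; 1, 1, 0; 0, 2, 1], !![1, 1, 2; 2, 0, 1; 2, 0, 2]⟩,
  ⟨!![0, 1, 2; 1, 0, 1; 0, 0, 2],
    !![0, 0, 1; 0, 1, 1; 2, 0, 0], !![0, 0, 2; 2, 1, 0; 1, 0, 0],
    !![0, 2, 1; 2, 1, 2; 2, 2, 0], !![2, 2, 0; 1, 1, 2; 2, 1, 2]⟩,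
  ⟨!![0, 1, 2; 1, 0, 2; 0, 0, 2],
    !![0, 0, 1; 1, 0, 0; 1, 1, 1], !![0, 1, 0; 2, 2, 1; 1, 0, 0],
    !![0, 2, 1; 1, 0, 0; 1, 0, 1], !![0, 1, 0; 2, 2, 1; 0, 2, 1]⟩,
  ⟨!![0, 1, 0; 1, 1, 0; 0, 0, 2],
    !![0, 0, 1; 0, 1, 0; 2, 2, 1], !![1, 2, 2; 0, 1, 0; 1, 0, 0],
    !![0, 0, 1; 2, 1, 1; 2, 0, 1], !![1, 0, 2; 0, 1, 2; 1, 0, 0]⟩,
  ⟨!![0, 1, 0; 1, 1, 1; 0, 0, 2],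
    !![0, 0, 1; 0, 1, 1; 2, 0, 2], !![2, 0, 2; 2, 1, 0; 1, 0, 0],
    !![0, 0, 1; 0, 1, 2; 2, 1, 2], !![0, 1, 2; 1, 1, 0; 1, 0, 0]⟩,
  ⟨!![0, 1, 0; 1, 1, 2; 0, 0, 2],
    !![0, 0, 1; 0, 1, 0; 2, 0, 0], !![0, 0, 2; 0, 1, 0; 1, 0, 0],
    !![0, 2, 1; 0, 2, 2; 2, 2, 0], !![2, 2, 2; 1, 1, 0; 2, 1, 0]⟩,
  ⟨!![0, 1, 1; 1, 1, 0; 0, 0, 2],
    !![0, 0, 1; 0, 1, 0; 2, 2, 0], !![0, 2, 2; 0, 1, 0; 1, 0, 0],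
    !![0, 0, 1; 2, 1, 1; 1, 1, 2], !![1, 1, 2; 0, 2, 2; 1, 0, 0]⟩,
  ⟨!![0, 1, 1; 1, 1, 1; 0, 0, 2],
    !![0, 0, 1; 0, 1, 0; 2, 2, 1], !![1, 2, 2; 0, 1, 0; 1, 0, 0],
    !![0, 0, 1; 0, 1, 1; 2, 0, 1], !![1, 0, 2; 2, 1, 0; 1, 0, 0]⟩,
  ⟨!![0, 1, 1; 1, 1, 2; 0, 0, 2],
    !![0, 0, 1; 0, 1, 0; 2, 0, 1], !![1, 0, 2; 0, 1, 0; 1, 0, 0],
    !![0, 1, 1; 1, 2, 1; 2, 1, 1], !![1, 0, 2; 1, 1, 1; 0, 2, 2]⟩,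
  ⟨!![0, 1, 2; 1, 1, 0; 0, 0, 2],
    !![0, 0, 1; 0, 1, 0; 2, 0, 2], !![2, 0, 2; 0, 1, 0; 1, 0, 0],
    !![0, 0, 1; 2, 2, 1; 2, 1, 2], !![0, 1, 1; 1, 1, 2; 1, 0, 0]⟩,
  ⟨!![0, 1, 2; 1, 1, 1; 0, 0, 2],
    !![0, 0, 1; 0, 1, 1; 2, 2, 1], !![2, 2, 2; 2, 1, 0; 1, 0, 0],
    !![0, 1, 1; 0, 1, 0; 2, 1, 1], !![1, 0, 2; 0, 1, 0; 1, 2, 0]⟩,
  ⟨!![0, 1, 2; 1, 1, 2; 0, 0, 2],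
    !![0, 0, 1; 0, 1, 0; 2, 2, 1], !![1, 2, 2; 0, 1, 0; 1, 0, 0],
    !![0, 0, 1; 1, 1, 1; 2, 0, 1], !![1, 0, 2; 1, 1, 1; 1, 0, 0]⟩,
  ⟨!![0, 1, 0; 1, 2, 0; 0, 0, 2],
    !![0, 0, 1; 0, 1, 0; 2, 2, 0], !![0, 2, 2; 0, 1, 0; 1, 0, 0],
    !![0, 2, 1; 2, 1, 2; 0, 0, 2], !![2, 2, 0; 2, 0, 2; 0, 0, 2]⟩,
  ⟨!![0, 1, 0; 1, 2, 1; 0, 0, 2],
    !![0, 0, 1; 0, 1, 0; 2, 1, 0], !![0, 1, 2; 0, 1, 0; 1, 0, 0],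
    !![0, 0, 1; 2, 2, 0; 2, 1, 1], !![2, 1, 1; 1, 1, 2; 1, 0, 0]⟩,
  ⟨!![0, 1, 0; 1, 2, 2; 0, 0, 2],
    !![0, 0, 1; 0, 1, 0; 2, 0, 2], !![2, 0, 2; 0, 1, 0; 1, 0, 0],
    !![0, 0, 1; 0, 1, 2; 2, 1, 2], !![0, 1, 2; 1, 1, 0; 1, 0, 0]⟩,
  ⟨!![0, 1, 1; 1, 2, 0; 0, 0, 2],
    !![0, 0, 1; 0, 1, 0; 2, 1, 2], !![2, 1, 2; 0, 1, 0; 1, 0, 0],
    !![0, 0, 1; 2, 0, 2; 0, 2, 2], !![2, 2, 0; 2, 0, 2; 1, 0, 0]⟩,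
  ⟨!![0, 1, 1; 1, 2, 1; 0, 0, 2],
    !![0, 0, 1; 0, 1, 0; 2, 2, 0], !![0, 2, 2; 0, 1, 0; 1, 0, 0],
    !![0, 1, 1; 2, 2, 1; 1, 0, 2], !![1, 1, 2; 0, 2, 2; 1, 1, 1]⟩,
  ⟨!![0, 1, 1; 1, 2, 2; 0, 0, 2],
    !![0, 0, 1; 0, 1, 1; 2, 2, 1], !![2, 2, 2; 2, 1, 0; 1, 0, 0],
    !![0, 0, 1; 2, 1, 0; 2, 0, 1], !![1, 0, 2; 1, 1, 2; 1, 0, 0]⟩,
  ⟨!![0, 1, 2; 1, 2, 0; 0, 0, 2],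
    !![0, 0, 1; 0, 1, 0; 2, 0, 0], !![0, 0, 2; 0, 1, 0; 1, 0, 0],
    !![0, 2, 1; 2, 1, 2; 2, 2, 0], !![2, 2, 0; 1, 1, 2; 2, 1, 2]⟩,
  ⟨!![0, 1, 2; 1, 2, 1; 0, 0, 2],
    !![0, 0, 1; 0, 1, 0; 2, 0, 1], !![1, 0, 2; 0, 1, 0; 1, 0, 0],
    !![0, 1, 1; 2, 1, 0; 2, 1, 1], !![1, 0, 2; 1, 1, 2; 0, 2, 1]⟩,
  ⟨!![0, 1, 2; 1, 2, 2; 0, 0, 2],
    !![0, 0, 1; 0, 1, 0; 2, 2, 0], !![0, 2, 2; 0, 1, 0; 1, 0, 0],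
    !![0, 2, 1; 0, 1, 1; 1, 0, 0], !![0, 0, 1; 1, 2, 0; 2, 2, 0]⟩
]

theorem certs_ok : certs.all Cert.ok = true := by decide +kernel

theorem cyclic_covered : ∀ a b : ZMod 3,
    certs.any (fun c => decide (c.g = !![0, 0, 1; 1, 0, b; 0, 1, a])) = true := by
  decide +kernel

theorem derogatory_covered : ∀ c y a b : ZMod 3, c ≠ 0 →
    certs.any (fun e => decide (e.g = !![0, -c, a; 1, y, b; 0, 0, c])) = true := by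
  decide +kernel

end Cfsg.Agent.Spec.Three
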