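import Cfsg.Agent.Spec.PSLTwoClass

/-!
Products of conjugacy classes of `PSL(2, F)`.
-/

set_option autoImplicit false
set_option linter.style.haveILetI false

open Matrix
open scoped MatrixGroups

namespace Cfsg.Agent.Spec.Two

variable {F : Type*} [Field F]

local notation "M₂" => Matrix (Fin 2) (Fin 2) F

/-- The lower left entry can be made nonzero by conjugation. -/
theorem exists_conj_lower (g : SL(2, F)) (hns : NS (g : M₂)) :
    ∃ h : SL(2, F), ((h * g * h⁻¹ : SL(2, F)) : M₂) 1 0 ≠ 0 := by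
  by_cases h10 : (g : M₂) 1 0 = 0
  swap
  · exact ⟨1, by simpa using h10⟩
  by_cases h01 : (g : M₂) 0 1 = 0
  swap
  · refine ⟨mk !![0, 1; -1, 0] (by simp [Matrix.det_fin_two]), ?_⟩
    simp [Matrix.SpecialLinearGroup.coe_inv, Matrix.adjugate_fin_two, Matrix.mul_apply,
      Matrix.vecMul, dotProduct, Fin.sum_univ_two, h01]
  refine ⟨mk !![1, 0; 1, 1] (by simp [Matrix.det_fin_two]), ?_⟩
  simp [Matrix.SpecialLinearGroup.coe_inv, Matrix.adjugate_fin_two, Matrix.mul_apply,
    Matrix.vecMul, dotProduct, Fin.sum_univ_two, h01, h10]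
  intro h
  refine hns ((g : M₂) 0 0) ?_
  ext i j
  fin_cases i <;> fin_cases j <;> simp [h01, h10]
  linear_combination -h

/-- The product of two nontrivial classes meets two trace values. -/
theorem products_trace_sq [Fintype F] (hq : 4 ≤ Fintype.card F) (a b : SL(2, F))
    (ha : NS (a : M₂)) (hb : NS (b : M₂)) (w : F) :
    ∃ u v : SL(2, F), (((u * a * u⁻¹) * (v * b * v⁻¹) : SL(2, F)) : M₂).trace ^ 2 ≠ w := by
  classical
  obtain ⟨h₁, hh₁⟩ := exists_conj_lower a ha
  obtain ⟨h₂, hh₂⟩ := exists_conj_lower b hb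
  set A := h₁ * a * h₁⁻¹ with hA
  set B := h₂ * b * h₂⁻¹ with hB
  by_contra hall
  push Not at hall
  let x : F → SL(2, F) := fun s => mk !![1, s; 0, 1] (by simp [Matrix.det_fin_two])
  set c₀ := (A : M₂) 0 0 * (B : M₂) 0 0 + (A : M₂) 0 1 * (B : M₂) 1 0 +
    ((A : M₂) 1 0 * (B : M₂) 0 1 + (A : M₂) 1 1 * (B : M₂) 1 1)
  set c₁ := (A : M₂) 0 0 * (B : M₂) 1 0 + (A : M₂) 1 0 * ((B : M₂) 1 1 - (B : M₂) 0 0) -
    (A : M₂) 1 1 * (B : M₂) 1 0
  set c₂ := -((A : M₂) 1 0 * (B : M₂) 1 0)
  have hc₂ : c₂ ≠ 0 := neg_ne_zero.2 (mul_ne_zero hh₁ hh₂)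
  have htr : ∀ s : F, (c₂ * s ^ 2 + c₁ * s + c₀) ^ 2 = w := by
    intro s
    rw [← hall h₁ (x s * h₂)]
    congr 1
    rw [show x s * h₂ * b * (x s * h₂)⁻¹ = x s * B * (x s)⁻¹ by rw [hB, _root_.mul_inv_rev]; group,
      ← hA]
    simp [x, c₀, c₁, c₂, Matrix.SpecialLinearGroup.coe_inv, Matrix.adjugate_fin_two,
      Matrix.mul_apply, Matrix.vecMul, dotProduct, Fin.sum_univ_two, Matrix.trace_fin_two]
    ring
  by_cases h2 : (2 : F) = 0
  · -- squares are injective
    have hconst : ∀ s : F, c₂ * s ^ 2 + c₁ * s = 0 := by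
      intro s
      have h0 := htr 0
      have hs := htr s
      have hz : (c₂ * s ^ 2 + c₁ * s) ^ 2 = 0 := by
        linear_combination hs - h0 - (c₂ * s ^ 2 + c₁ * s) * c₀ * h2
      exact pow_eq_zero_iff two_ne_zero |>.1 hz
    let P : Polynomial F := Polynomial.C c₂ * Polynomial.X ^ 2 + Polynomial.C c₁ * Polynomial.X
    have hP : P ≠ 0 := fun h => hc₂ (by
      simpa [P, Polynomial.coeff_X] using congrArg (fun Q => Polynomial.coeff Q 2) h)
    have hdeg : P.natDegree ≤ 2 := by simp only [P]; compute_degree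
    have hcard := Polynomial.card_le_degree_of_subset_roots (p := P) (Z := (Finset.univ : Finset F))
      (fun s _ => by rw [Polynomial.mem_roots hP]; simpa [P] using hconst s)
    rw [Finset.card_univ] at hcard
    omega
  · let R : Polynomial F := Polynomial.C c₂ * Polynomial.X ^ 2 + Polynomial.C c₁ * Polynomial.X +
      Polynomial.C c₀
    let P : Polynomial F := R ^ 2 - Polynomial.C w
    have hR : R.natDegree ≤ 2 := by simp only [R]; compute_degree
    have hR2 : R.coeff 2 = c₂ := by simp [R, Polynomial.coeff_X, Polynomial.coeff_C]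
    have hP4 : P.coeff 4 = c₂ ^ 2 := by
      have := Polynomial.coeff_pow_of_natDegree_le (p := R) (n := 2) (m := 2) hR
      simp only [P, Polynomial.coeff_sub, Polynomial.coeff_C, OfNat.ofNat_ne_zero, if_false, sub_zero]
      rw [show (4 : ℕ) = 2 * 2 from rfl, this, hR2]
    have hP : P ≠ 0 := fun h => by
      rw [h, Polynomial.coeff_zero] at hP4
      exact pow_ne_zero 2 hc₂ hP4.symm
    have hdeg : P.natDegree ≤ 4 := by
      simp only [P]
      refine (Polynomial.natDegree_sub_le _ _).trans (max_le ?_ (by simp))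
      exact Polynomial.natDegree_pow_le.trans (by omega)
    have hcard := Polynomial.card_le_degree_of_subset_roots (p := P) (Z := (Finset.univ : Finset F))
      (fun s _ => by rw [Polynomial.mem_roots hP]; simp [P, R, htr s])
    rw [Finset.card_univ] at hcard
    have hodd : ¬ 2 ∣ Fintype.card F := fun h => h2 (two_eq_zero_iff.2 h)
    omega

theorem pow_card_add_one [Fintype F] (A : SL(2, F))
    (hns : NS (A : M₂)) (h : ∀ r : F, r ^ 2 - (A : M₂).trace * r + 1 ≠ 0) :
    A ^ (Fintype.card F + 1) = 1 := by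
  classical
  have hmem : A ∈ Subgroup.centralizer ({A} : Set SL(2, F)) :=
    Subgroup.mem_centralizer_singleton_iff.2 rfl
  have hcard := card_centralizer_eq A hns
  rw [card_qf_nonsplit h] at hcard
  have := pow_card_eq_one' (x := (⟨A, hmem⟩ : Subgroup.centralizer ({A} : Set SL(2, F))))
  rw [hcard] at this
  exact congrArg Subtype.val this

/-- A parabolic element has projective order dividing the characteristic. -/
theorem π_pow_char_of_trace_sq [Fintype F] (p : ℕ) [Fact p.Prime] [CharP F p] (A : SL(2, F))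
    (h : (A : M₂).trace ^ 2 = 4) : π A ^ p = 1 := by
  obtain ⟨ε, hε, hA⟩ : ∃ ε : F, (A : M₂).trace = 2 * ε ∧ ε ^ 2 = 1 := by
    by_cases h2 : (2 : F) = 0
    · refine ⟨1, ?_, one_pow 2⟩
      rw [h2, zero_mul]
      exact pow_eq_zero_iff two_ne_zero |>.1 (h.trans (by linear_combination (2 : F) * h2))
    · refine ⟨(A : M₂).trace / 2, by field_simp, ?_⟩
      rw [div_pow, h]
      field_simp
      norm_num
  have hnil : ((A : M₂) - ε • 1) ^ 2 = 0 := by
    have hdet : (A : M₂).det = 1 := A.2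
    rw [Matrix.det_fin_two] at hdet
    rw [Matrix.trace_fin_two] at hε
    rw [pow_two]
    ext i j
    fin_cases i <;> fin_cases j <;> simp [Matrix.mul_apply, Matrix.vecMul, dotProduct, Fin.sum_univ_two]
    · linear_combination (A : M₂) 0 0 * hε - hdet + hA
    · linear_combination (A : M₂) 0 1 * hε
    · linear_combination (A : M₂) 1 0 * hε
    · linear_combination (A : M₂) 1 1 * hε - hdet + hA
  rw [← map_pow, π_eq_one_iff]
  refine ⟨ε ^ p, ?_⟩
  have hc : Commute ((A : M₂) - ε • 1) (ε • 1) :=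
    (Commute.one_right _).smul_right ε
  rw [Matrix.SpecialLinearGroup.coe_pow, show (A : M₂) = ((A : M₂) - ε • 1) + ε • 1 by
    rw [sub_add_cancel], add_pow_char_of_commute p hc, smul_pow, one_pow]
  obtain ⟨k, hk⟩ := Nat.exists_eq_add_of_le (Fact.out : p.Prime).two_le
  rw [hk, pow_add, hnil, zero_mul, zero_add]

end Cfsg.Agent.Spec.Two
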