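import Mathlib

/-!
Elements of `SL(2, F)` for a finite field of any characteristic: companion forms, the norm form
`x² + t x y + y²`, centralisers and conjugacy by trace.
-/

set_option autoImplicit false
set_option linter.style.haveILetI false

open Matrix
open scoped MatrixGroups

namespace Cfsg.Agent.Spec.Two

universe u

variable {F : Type u} [Field F]

local notation "M₂" => Matrix (Fin 2) (Fin 2) F

/-- The companion matrix of `X² - t X + 1`. -/
def comp (t : F) : M₂ := !![0, -1; 1, t]

/-- The norm form `x² + t x y + y²`. -/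
def qf (t : F) (v : F × F) : F := v.1 ^ 2 + t * (v.1 * v.2) + v.2 ^ 2

/-- The matrix `x + y C`. -/
def lin (t : F) (v : F × F) : M₂ := !![v.1, -v.2; v.2, v.1 + t * v.2]

theorem comp_det (t : F) : (comp t).det = 1 := by simp [comp, Matrix.det_fin_two]

theorem comp_trace (t : F) : (comp t).trace = t := by simp [comp, Matrix.trace_fin_two]

theorem lin_det (t : F) (v : F × F) : (lin t v).det = qf t v := by
  simp [lin, qf, Matrix.det_fin_two]; ring

theorem lin_comm (t : F) (v : F × F) : lin t v * comp t = comp t * lin t v := by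
  ext i j
  fin_cases i <;> fin_cases j <;> simp [lin, comp, Matrix.mul_apply, Fin.sum_univ_two] <;> ring

theorem lin_injective (t : F) : Function.Injective (lin t) := by
  intro v w h
  have h0 := congrFun (congrFun h 0) 0
  have h1 := congrFun (congrFun h 1) 0
  simp [lin] at h0 h1
  exact Prod.ext h0 h1

theorem exists_lin_of_comm {t : F} {M : M₂} (h : M * comp t = comp t * M) :
    M = lin t (M 0 0, M 1 0) := by
  have h00 := congrFun (congrFun h 0) 0
  have h10 := congrFun (congrFun h 1) 0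
  simp [comp, Matrix.mul_apply, Fin.sum_univ_two] at h00 h10
  ext i j
  fin_cases i <;> fin_cases j <;> simp [lin]
  · linear_combination h00
  · linear_combination h10

/-- An element of `SL(2, F)` from a matrix. -/
def mk (A : M₂) (h : A.det = 1) : SL(2, F) := ⟨A, h⟩

@[simp] theorem coe_mk (A : M₂) (h : A.det = 1) : ((mk A h : SL(2, F)) : M₂) = A := rfl

/-- Nonscalar. -/
def NS (A : M₂) : Prop := ∀ z : F, A ≠ z • (1 : M₂)

theorem ns_of_trace_sq {A : M₂} (hA : A.det = 1) (h : A.trace ^ 2 ≠ 4) : NS A := by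
  intro z hz
  apply h
  rw [hz] at hA ⊢
  rw [Matrix.det_smul, Fintype.card_fin, Matrix.det_one, mul_one] at hA
  rw [Matrix.trace_smul, Matrix.trace_one, Fintype.card_fin, smul_eq_mul, Nat.cast_ofNat]
  linear_combination (4 : F) * hA

/-- The companion form of a nonscalar matrix of determinant one. -/
theorem exists_companion {A : M₂} (hA : A.det = 1) (hns : NS A) :
    ∃ P : M₂, P.det ≠ 0 ∧ A * P = P * comp A.trace := by
  rw [Matrix.det_fin_two] at hA
  by_cases h10 : A 1 0 = 0
  · by_cases h01 : A 0 1 = 0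
    · refine ⟨!![1, A 0 0; 1, A 1 1], ?_, ?_⟩
      · rw [Matrix.det_fin_two_of, sub_ne_zero, one_mul, mul_one]
        intro h
        refine hns (A 0 0) ?_
        ext i j
        fin_cases i <;> fin_cases j <;> simp [h01, h10, h]
      · ext i j
        fin_cases i <;> fin_cases j <;>
          simp [comp, Matrix.trace_fin_two, Matrix.mul_apply, Fin.sum_univ_two, h01, h10]
        · linear_combination -hA - A 0 1 * h10
        · linear_combination -hA - A 0 1 * h10
    · refine ⟨!![0, A 0 1; 1, A 1 1], ?_, ?_⟩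
      · rw [Matrix.det_fin_two_of]; simpa using h01
      · ext i j
        fin_cases i <;> fin_cases j <;>
          simp [comp, Matrix.trace_fin_two, Matrix.mul_apply, Fin.sum_univ_two]
        · ring
        · linear_combination -hA
  · refine ⟨!![1, A 0 0; 0, A 1 0], ?_, ?_⟩
    · rw [Matrix.det_fin_two_of]; simpa using h10
    · ext i j
      fin_cases i <;> fin_cases j <;>
        simp [comp, Matrix.trace_fin_two, Matrix.mul_apply, Fin.sum_univ_two]
      · linear_combination -hA
      · ring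

section Forms

variable [Fintype F]

/-- The field `F[θ]` of a form without isotropic vectors. -/
theorem exists_theta {t : F} (h : ∀ r : F, r ^ 2 - t * r + 1 ≠ 0) :
    ∃ (K : Type u) (_ : Field K) (_ : Fintype K) (ψ : F × F → K) (φ : F →+* K),
      Function.Bijective ψ ∧ Nat.card Kˣ = Fintype.card F ^ 2 - 1 ∧
      ∀ v, ψ v ^ (Fintype.card F + 1) = φ (qf t v) := by
  classical
  let f : Polynomial F := Polynomial.X ^ 2 - Polynomial.C t * Polynomial.X + 1
  have hdeg : f.natDegree = 2 := by simp only [f]; compute_degree!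
  have hmon : f.Monic := by simp only [f]; monicity!
  have hirr : Irreducible f := by
    apply Polynomial.irreducible_of_degree_le_three_of_not_isRoot
    · simp [hdeg]
    · intro x
      simp only [f, Polynomial.IsRoot, Polynomial.eval_add, Polynomial.eval_sub,
        Polynomial.eval_pow, Polynomial.eval_X, Polynomial.eval_mul, Polynomial.eval_C,
        Polynomial.eval_one]
      exact h x
  haveI := Fact.mk hirr
  have hfin : Module.Finite F (AdjoinRoot f) := hmon.finite_adjoinRoot
  have hfin' : Finite (AdjoinRoot f) := Module.finite_of_finite F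
  haveI := Fintype.ofFinite (AdjoinRoot f)
  obtain ⟨p, hp⟩ := CharP.exists F
  haveI := hp
  obtain ⟨e, hpp, he⟩ := FiniteField.card F p
  haveI := Fact.mk hpp
  haveI : CharP (AdjoinRoot f) p :=
    charP_of_injective_algebraMap (algebraMap F (AdjoinRoot f)).injective p
  set θ := AdjoinRoot.root f
  set φ := algebraMap F (AdjoinRoot f)
  have hcard : Fintype.card (AdjoinRoot f) = Fintype.card F ^ 2 := by
    rw [Module.card_eq_pow_finrank (K := F), (AdjoinRoot.powerBasis' hmon).finrank,
      AdjoinRoot.powerBasis'_dim, hdeg]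
  have hθ : θ ^ 2 - φ t * θ + 1 = 0 := by
    have := AdjoinRoot.mk_self (f := f)
    simp only [f, map_add, map_sub, map_pow, map_mul, map_one, AdjoinRoot.mk_X, AdjoinRoot.mk_C] at this
    exact this
  have hinj : Function.Injective fun v : F × F => φ v.1 + θ * φ v.2 := by
    intro v w hvw
    have h1 : AdjoinRoot.mk f (Polynomial.C v.1 + Polynomial.X * Polynomial.C v.2) =
        AdjoinRoot.mk f (Polynomial.C w.1 + Polynomial.X * Polynomial.C w.2) := by
      simp only [map_add, map_mul, AdjoinRoot.mk_C, AdjoinRoot.mk_X]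
      exact hvw
    rw [AdjoinRoot.mk_eq_mk] at h1
    have h2 := Polynomial.eq_zero_of_dvd_of_natDegree_lt h1 (by
      rw [hdeg, Nat.lt_succ_iff]
      compute_degree)
    have h3 := congrArg (fun P => Polynomial.coeff P 0) h2
    have h4 := congrArg (fun P => Polynomial.coeff P 1) h2
    simp [sub_eq_zero] at h3 h4
    exact Prod.ext h3 h4
  have hbij : Function.Bijective fun v : F × F => φ v.1 + θ * φ v.2 :=
    (Fintype.bijective_iff_injective_and_card _).2 ⟨hinj, by
      rw [Fintype.card_prod, hcard, pow_two]⟩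
  have hφq : ∀ a : F, φ a ^ Fintype.card F = φ a := fun a => by
    rw [← map_pow, FiniteField.pow_card]
  have hθq : θ ^ Fintype.card F = φ t - θ := by
    have h1 : (θ ^ Fintype.card F) ^ 2 - φ t * θ ^ Fintype.card F + 1 = 0 := by
      have := congrArg (· ^ Fintype.card F) hθ
      simp only [he] at this ⊢
      rw [add_pow_char_pow, sub_pow_char_pow, mul_pow, ← pow_mul, ← he, hφq, one_pow,
        zero_pow Fintype.card_ne_zero, mul_comm 2, pow_mul] at this
      rw [← he]
      exact this
    have h2 : (θ ^ Fintype.card F - θ) * (θ ^ Fintype.card F + θ - φ t) = 0 := by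
      linear_combination h1 - hθ
    rcases mul_eq_zero.1 h2 with h3 | h3
    · exfalso
      have hall : ∀ x : AdjoinRoot f, x ^ Fintype.card F = x := by
        intro x
        obtain ⟨v, rfl⟩ := hbij.2 x
        simp only [he]
        rw [add_pow_char_pow, mul_pow, ← he, hφq, hφq, sub_eq_zero.1 h3]
      have hq := Fintype.one_lt_card (α := F)
      obtain ⟨g, hg⟩ := IsCyclic.exists_ofOrder_eq_natCard (α := (AdjoinRoot f)ˣ)
      have hg1 : g ^ (Fintype.card F - 1) = 1 := by
        apply mul_left_cancel (a := g)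
        rw [← pow_succ', Nat.sub_add_cancel hq.le, mul_one]
        exact Units.ext (by rw [Units.val_pow_eq_pow_val]; exact hall g)
      have := Nat.le_of_dvd (by omega) (orderOf_dvd_of_pow_eq_one hg1)
      rw [hg, Nat.card_units, Nat.card_eq_fintype_card, hcard] at this
      have : 2 * Fintype.card F ≤ Fintype.card F ^ 2 := by
        rw [pow_two]; exact Nat.mul_le_mul_right _ hq
      omega
    · linear_combination h3
  refine ⟨AdjoinRoot f, inferInstance, inferInstance, _, φ, hbij, by
    rw [Nat.card_units, Nat.card_eq_fintype_card, hcard], fun v => ?_⟩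
  rw [pow_succ]
  have : (φ v.1 + θ * φ v.2) ^ Fintype.card F = φ v.1 + (φ t - θ) * φ v.2 := by
    simp only [he]
    rw [add_pow_char_pow, mul_pow, ← he, hφq, hφq, hθq]
  show (φ v.1 + θ * φ v.2) ^ Fintype.card F * (φ v.1 + θ * φ v.2) = φ (qf t v)
  rw [this, qf]
  simp only [map_add, map_mul, map_pow]
  linear_combination (-(φ v.2) ^ 2) * hθ

theorem card_qf_split {t r : F} (hr : r ^ 2 - t * r + 1 = 0) (ht : t ^ 2 ≠ 4) :
    Nat.card {v : F × F // qf t v = 1} = Fintype.card F - 1 := by
  rw [← Nat.card_eq_fintype_card (α := F), ← Nat.card_units]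
  have hd : r - (t - r) ≠ 0 := fun h => ht (by linear_combination (2 * r - t) * h - (4 : F) * hr)
  have hprod : ∀ v : F × F, qf t v = (v.1 + r * v.2) * (v.1 + (t - r) * v.2) := fun v => by
    simp only [qf]; linear_combination v.2 ^ 2 * hr
  refine Nat.card_congr (Equiv.ofBijective
    (fun v => (⟨v.1.1 + r * v.1.2, v.1.1 + (t - r) * v.1.2, by rw [← hprod, v.2], by
      rw [mul_comm, ← hprod, v.2]⟩ : Fˣ)) ⟨?_, ?_⟩)
  · intro v w hvw
    have h1 : v.1.1 + r * v.1.2 = w.1.1 + r * w.1.2 := congrArg Units.val hvw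
    have h2 : v.1.1 + (t - r) * v.1.2 = w.1.1 + (t - r) * w.1.2 := congrArg Units.inv hvw
    have h3 : v.1.2 = w.1.2 := mul_left_cancel₀ hd (by linear_combination h1 - h2)
    exact Subtype.ext (Prod.ext (by linear_combination h1 - r * h3) h3)
  · intro u
    set y := ((u : F) - ((u⁻¹ : Fˣ) : F)) / (r - (t - r)) with hy
    have hy' : (r - (t - r)) * y = (u : F) - ((u⁻¹ : Fˣ) : F) := by
      rw [hy, mul_div_cancel₀ _ hd]
    refine ⟨⟨((u : F) - r * y, y), ?_⟩, Units.ext ?_⟩
    · rw [hprod]
      show ((u : F) - r * y + r * y) * ((u : F) - r * y + (t - r) * y) = 1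
      rw [sub_add_cancel, show (u : F) - r * y + (t - r) * y = ((u⁻¹ : Fˣ) : F) by
        linear_combination -hy', Units.mul_inv]
    · show (u : F) - r * y + r * y = u
      ring

theorem card_qf_nonsplit {t : F} (h : ∀ r : F, r ^ 2 - t * r + 1 ≠ 0) :
    Nat.card {v : F × F // qf t v = 1} = Fintype.card F + 1 := by
  classical
  obtain ⟨K, _, _, ψ, φ, hbij, hcard, hψ⟩ := exists_theta h
  have hq := Fintype.one_lt_card (α := F)
  have hdvd : Fintype.card F + 1 ∣ Nat.card Kˣ := by
    rw [hcard]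
    exact ⟨Fintype.card F - 1, by simpa using Nat.sq_sub_sq (Fintype.card F) 1⟩
  obtain ⟨g, hg⟩ := IsCyclic.exists_ofOrder_eq_natCard (α := Kˣ)
  obtain ⟨ζ, hζ⟩ : ∃ ζ : Kˣ, orderOf ζ = Fintype.card F + 1 :=
    ⟨g ^ (orderOf g / (Fintype.card F + 1)),
      orderOf_pow_orderOf_div (orderOf_pos g).ne' (hg ▸ hdvd)⟩
  have hroots : Nat.card {u : K // u ^ (Fintype.card F + 1) = 1} = Fintype.card F + 1 := by
    have hz : IsPrimitiveRoot (ζ : K) (Fintype.card F + 1) :=
      IsPrimitiveRoot.coe_units_iff.2 (hζ ▸ IsPrimitiveRoot.orderOf ζ)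
    conv_rhs => rw [← hz.card_nthRootsFinset]
    rw [← Nat.card_eq_finsetCard]
    exact Nat.card_congr (Equiv.subtypeEquivRight fun u => by
      rw [Polynomial.mem_nthRootsFinset (by omega)])
  rw [← hroots]
  refine Nat.card_congr (Equiv.ofBijective (fun v => ⟨ψ v.1, by rw [hψ, v.2, map_one]⟩)
    ⟨fun v w e => Subtype.ext (hbij.1 (congrArg Subtype.val e)), fun u => ?_⟩)
  obtain ⟨v, hv⟩ := hbij.2 u.1
  exact ⟨⟨v, φ.injective (by rw [← hψ, hv, u.2, map_one])⟩, Subtype.ext hv⟩

theorem card_qf_parabolic {t : F} (ht : t ^ 2 = 4) :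
    Nat.card {v : F × F // qf t v = 1} = Nat.card {s : F // s ^ 2 = 1} * Fintype.card F := by
  obtain ⟨ε, hε, rfl⟩ : ∃ ε : F, ε ^ 2 = 1 ∧ t = 2 * ε := by
    by_cases h2 : (2 : F) = 0
    · refine ⟨1, one_pow 2, ?_⟩
      rw [h2, zero_mul]
      exact pow_eq_zero_iff two_ne_zero |>.1 (ht.trans (by linear_combination (2 : F) * h2))
    · refine ⟨t / 2, ?_, by field_simp⟩
      rw [div_pow, ht]
      field_simp
      norm_num
  rw [← Nat.card_eq_fintype_card (α := F), ← Nat.card_prod]
  have hsq : ∀ v : F × F, qf (2 * ε) v = (v.1 + ε * v.2) ^ 2 := fun v => by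
    simp only [qf]; linear_combination -v.2 ^ 2 * hε
  exact Nat.card_congr
    { toFun := fun v => (⟨v.1.1 + ε * v.1.2, by rw [← hsq, v.2]⟩, v.1.2)
      invFun := fun x => ⟨(x.1.1 - ε * x.2, x.2), by rw [hsq]; simp [x.1.2]⟩
      left_inv := fun v => Subtype.ext (Prod.ext (by simp) rfl)
      right_inv := fun x => Prod.ext (Subtype.ext (by simp)) rfl }

theorem exists_qf_eq {t : F} (ht : t ^ 2 ≠ 4) (c : F) : ∃ v, qf t v = c := by
  classical
  by_cases h : ∃ r : F, r ^ 2 - t * r + 1 = 0
  · obtain ⟨r, hr⟩ := h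
    have hd : r - (t - r) ≠ 0 := fun h => ht (by linear_combination (2 * r - t) * h - (4 : F) * hr)
    set y := (1 - c) / (r - (t - r)) with hy
    have hy' : (r - (t - r)) * y = 1 - c := by rw [hy, mul_div_cancel₀ _ hd]
    exact ⟨(1 - r * y, y), by simp only [qf]; linear_combination y ^ 2 * hr - hy'⟩
  · push Not at h
    rcases eq_or_ne c 0 with rfl | hc
    · exact ⟨(0, 0), by simp [qf]⟩
    obtain ⟨K, _, _, ψ, φ, hbij, hcard, hψ⟩ := exists_theta h
    have hq := Fintype.one_lt_card (α := F)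
    obtain ⟨g, hg⟩ := IsCyclic.exists_generator (α := Kˣ)
    obtain ⟨i, hi⟩ := (mem_powers_iff_mem_zpowers).2 (hg (Units.mk0 (φ c) ((map_ne_zero φ).2 hc)))
    have h1 : g ^ (i * (Fintype.card F - 1)) = 1 := by
      rw [pow_mul, show g ^ i = Units.mk0 (φ c) _ from hi]
      apply Units.ext
      rw [Units.val_pow_eq_pow_val, Units.val_mk0, ← map_pow, Units.val_one,
        FiniteField.pow_card_sub_one_eq_one c hc, map_one]
    have h2 : orderOf g = Fintype.card F ^ 2 - 1 :=
      (orderOf_eq_card_of_forall_mem_zpowers hg).trans hcard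
    have h3 := orderOf_dvd_of_pow_eq_one h1
    rw [h2, show Fintype.card F ^ 2 - 1 = (Fintype.card F + 1) * (Fintype.card F - 1) by
      simpa using Nat.sq_sub_sq (Fintype.card F) 1] at h3
    obtain ⟨j, rfl⟩ := Nat.dvd_of_mul_dvd_mul_right (by omega) h3
    obtain ⟨v, hv⟩ := hbij.2 ((g ^ j : Kˣ) : K)
    refine ⟨v, φ.injective ?_⟩
    rw [← hψ, hv, ← Units.val_pow_eq_pow_val, ← pow_mul, mul_comm j]
    exact congrArg Units.val (show g ^ ((Fintype.card F + 1) * j) = Units.mk0 (φ c) _ from hi)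

end Forms

section Group

/-- The centraliser of a nonscalar element as a norm-one conic. -/
theorem card_centralizer_eq (g : SL(2, F)) (hns : NS (g : M₂)) :
    Nat.card (Subgroup.centralizer ({g} : Set SL(2, F))) =
      Nat.card {v : F × F // qf (g : M₂).trace v = 1} := by
  classical
  obtain ⟨P, hP, hgP⟩ := exists_companion g.2 hns
  set t := (g : M₂).trace
  have hu : IsUnit P.det := Ne.isUnit hP
  have h1 : P * P⁻¹ = 1 := Matrix.mul_nonsing_inv P hu
  have h2 : P⁻¹ * P = 1 := Matrix.nonsing_inv_mul P hu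
  have hcomp : P⁻¹ * (g : M₂) * P = comp t := by
    rw [Matrix.mul_assoc, hgP, ← Matrix.mul_assoc, h2, Matrix.one_mul]
  have hg' : (g : M₂) = P * comp t * P⁻¹ := by
    rw [← hgP, Matrix.mul_assoc, h1, Matrix.mul_one]
  have hdet : ∀ v : F × F, (P * lin t v * P⁻¹).det = qf t v := fun v => by
    rw [Matrix.det_conj ((Matrix.isUnit_iff_isUnit_det P).2 hu), lin_det]
  symm
  refine Nat.card_congr (Equiv.ofBijective (fun v => ⟨mk (P * lin t v.1 * P⁻¹) (by rw [hdet, v.2]), ?_⟩)
    ⟨fun v w e => ?_, fun x => ?_⟩)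
  · rw [Subgroup.mem_centralizer_singleton_iff]
    apply Subtype.ext
    show P * lin t v.1 * P⁻¹ * (g : M₂) = (g : M₂) * (P * lin t v.1 * P⁻¹)
    rw [hg']
    simp only [Matrix.mul_assoc]
    rw [← Matrix.mul_assoc P⁻¹ P, h2, ← Matrix.mul_assoc P⁻¹ P, h2, Matrix.one_mul, Matrix.one_mul,
      ← Matrix.mul_assoc (lin t v.1), lin_comm, Matrix.mul_assoc]
  · apply Subtype.ext
    apply lin_injective t
    have := congrArg (fun x : Subgroup.centralizer ({g} : Set SL(2, F)) =>
      P⁻¹ * ((x : SL(2, F)) : M₂) * P) e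
    simp only [coe_mk, Matrix.mul_assoc, h2, Matrix.mul_one] at this
    simpa only [← Matrix.mul_assoc, h2, Matrix.one_mul] using this
  · set A : M₂ := ((x : SL(2, F)) : M₂) with hA
    have hx : A * (g : M₂) = (g : M₂) * A :=
      congrArg (fun y : SL(2, F) => (y : M₂)) (Subgroup.mem_centralizer_singleton_iff.1 x.2)
    have hc : P⁻¹ * A * P * comp t = comp t * (P⁻¹ * A * P) := by
      rw [← hcomp]
      simp only [Matrix.mul_assoc]
      rw [← Matrix.mul_assoc P P⁻¹, h1, Matrix.one_mul, ← Matrix.mul_assoc P P⁻¹, h1,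
        Matrix.one_mul, ← Matrix.mul_assoc A, hx, Matrix.mul_assoc]
    have hlin := exists_lin_of_comm hc
    have hA' : P * lin t ((P⁻¹ * A * P) 0 0, (P⁻¹ * A * P) 1 0) * P⁻¹ = A := by
      rw [← hlin]
      simp only [← Matrix.mul_assoc, h1, Matrix.one_mul]
      rw [Matrix.mul_assoc, h1, Matrix.mul_one]
    exact ⟨⟨_, by rw [← hdet, hA']; exact (x : SL(2, F)).2⟩, Subtype.ext (Subtype.ext hA')⟩

variable [Fintype F]

/-- Elements of `SL(2, F)` of the same trace `t` with `t² ≠ 4` are conjugate. -/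
theorem exists_conj (a b : SL(2, F)) (htr : (a : M₂).trace = (b : M₂).trace)
    (ht : (a : M₂).trace ^ 2 ≠ 4) : ∃ g : SL(2, F), g * a * g⁻¹ = b := by
  classical
  obtain ⟨P, hP, haP⟩ := exists_companion a.2 (ns_of_trace_sq a.2 ht)
  obtain ⟨Q, hQ, hbQ⟩ := exists_companion b.2 (ns_of_trace_sq b.2 (htr ▸ ht))
  rw [← htr] at hbQ
  set t := (a : M₂).trace
  have hu : IsUnit P.det := Ne.isUnit hP
  obtain ⟨v, hv⟩ := exists_qf_eq ht (P.det / Q.det)
  let G : M₂ := Q * lin t v * P⁻¹
  have hG : G.det = 1 := by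
    rw [Matrix.det_mul, Matrix.det_mul, lin_det, hv, Matrix.det_nonsing_inv, Ring.inverse_eq_inv']
    field_simp
  let g : SL(2, F) := ⟨G, hG⟩
  refine ⟨g, mul_inv_eq_of_eq_mul (Subtype.ext ?_)⟩
  show G * (a : M₂) = (b : M₂) * G
  have hPa : P⁻¹ * (a : M₂) = comp t * P⁻¹ := by
    have := congrArg (fun N => P⁻¹ * N * P⁻¹) haP
    simp only [← Matrix.mul_assoc, Matrix.nonsing_inv_mul P hu, Matrix.one_mul] at this
    rwa [Matrix.mul_assoc (P⁻¹ * (a : M₂)), Matrix.mul_nonsing_inv P hu, Matrix.mul_one] at this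
  calc Q * lin t v * P⁻¹ * (a : M₂) = Q * (lin t v * comp t) * P⁻¹ := by
        rw [Matrix.mul_assoc (Q * lin t v), hPa]; simp only [Matrix.mul_assoc]
    _ = (b : M₂) * Q * lin t v * P⁻¹ := by rw [lin_comm, hbQ]; simp only [Matrix.mul_assoc]
    _ = (b : M₂) * (Q * lin t v * P⁻¹) := by simp only [Matrix.mul_assoc]

end Group

end Cfsg.Agent.Spec.Two
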