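import Cfsg.Agent.Spec.UnitaryElements

/-!
A root of an irreducible polynomial annihilating a unitary matrix: its order divides the torus
order.
-/

set_option autoImplicit false
set_option linter.style.haveILetI false

open Polynomial Finset

namespace Cfsg.Agent.Spec.Unitary

variable {F : Type*} [Field F] [Fintype F] {q : ℕ}

/-- The sum `1 + q^2 + ... + q^(2(m-1))`. -/
def evenSum (q m : ℕ) : ℕ := ∑ i ∈ range m, (q ^ 2) ^ i

theorem evenSum_mul {q : ℕ} (hq : 1 ≤ q) (m : ℕ) :
    evenSum q m * (q ^ 2 - 1) + 1 = (q ^ 2) ^ m := by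
  have h := geom_sum_mul_add (q ^ 2 - 1) m
  rwa [Nat.sub_add_cancel (Nat.one_le_pow _ _ hq)] at h

variable {h : F[X]} [Fact (Irreducible h)] (hF : Fintype.card F = q ^ 2) (hmon : h.Monic)

omit [Fintype F] in
include hmon in
theorem finrank_adjoinRoot : Module.finrank F (AdjoinRoot h) = h.natDegree := by
  rw [(AdjoinRoot.powerBasis' hmon).finrank, AdjoinRoot.powerBasis'_dim]

include hmon in
theorem finite_adjoinRoot' : Finite (AdjoinRoot h) :=
  haveI : Module.Finite F (AdjoinRoot h) := hmon.finite_adjoinRoot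
  Module.finite_of_finite F

include hF hmon in
theorem root_pow_period : AdjoinRoot.root h ^ (q ^ 2) ^ h.natDegree = AdjoinRoot.root h := by
  haveI := finite_adjoinRoot' hmon
  haveI := Fintype.ofFinite (AdjoinRoot h)
  rw [← hF, ← finrank_adjoinRoot hmon, ← Module.card_eq_pow_finrank, FiniteField.pow_card]

include hF hmon in
theorem natDegree_dvd_of_root_pow {k : ℕ}
    (hk : AdjoinRoot.root h ^ (q ^ 2) ^ k = AdjoinRoot.root h) : h.natDegree ∣ k := by
  haveI := finite_adjoinRoot' hmon
  rw [← finrank_adjoinRoot hmon, ← FiniteField.orderOf_frobeniusAlgEquivOfAlgebraic F (AdjoinRoot h),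
    orderOf_dvd_iff_pow_eq_one]
  have hrt : (FiniteField.frobeniusAlgEquivOfAlgebraic F (AdjoinRoot h) ^ k) (AdjoinRoot.root h) =
      AdjoinRoot.root h := by
    rw [AlgEquiv.coe_pow, FiniteField.coe_frobeniusAlgEquivOfAlgebraic_iterate, hF]
    exact hk
  exact AlgEquiv.coe_toAlgHom_injective (AdjoinRoot.algHom_ext hrt)

include hF hmon in
/-- Roots of the conjugate polynomial are odd Frobenius powers of the root. -/
theorem exists_odd_pow_of_conj_root (y : AdjoinRoot h) (hy : aeval y (h.map (conjHom hF)) = 0) :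
    ∃ i, i < h.natDegree ∧ y = AdjoinRoot.root h ^ q ^ (2 * i + 1) := by
  haveI := finite_adjoinRoot' hmon
  haveI : Module.Finite F (AdjoinRoot h) := hmon.finite_adjoinRoot
  have hd : 0 < h.natDegree := (Fact.out : Irreducible h).natDegree_pos
  set x := y ^ q ^ (2 * h.natDegree - 1) with hx
  have hxq : frobPow hF (AdjoinRoot h) 1 x = y := by
    rw [frobPow_apply, pow_one, hx, ← pow_mul, ← pow_succ,
      show 2 * h.natDegree - 1 + 1 = 2 * h.natDegree + 0 by omega,
      frobPow_add_finrank hF (finrank_adjoinRoot hmon), pow_zero, pow_one]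
  have hroot : aeval x h = 0 := by
    apply (frobPow hF (AdjoinRoot h) 1).injective
    rw [map_zero, aeval_def, hom_eval₂, hxq, show (frobPow hF (AdjoinRoot h) 1).comp
      (algebraMap F (AdjoinRoot h)) = (algebraMap F (AdjoinRoot h)).comp (conjHom hF) from
        RingHom.ext fun c => frobPow_algebraMap hF odd_one c, ← eval₂_map, ← aeval_def, hy]
  have hmin : minpoly F (AdjoinRoot.root h) = h := by
    rw [AdjoinRoot.minpoly_root (Fact.out : Irreducible h).ne_zero, hmon.leadingCoeff, inv_one,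
      C_1, mul_one]
  obtain ⟨σ, hσ⟩ := minpoly.exists_algEquiv_of_root' (K := F) (L := AdjoinRoot h) (x := x)
    (y := AdjoinRoot.root h) (Algebra.IsAlgebraic.isAlgebraic _) (by rw [hmin, hroot])
  obtain ⟨⟨i, hi⟩, hiσ⟩ :=
    (FiniteField.bijective_frobeniusAlgEquivOfAlgebraic_pow F (AdjoinRoot h)).2 σ
  rw [finrank_adjoinRoot hmon] at hi
  refine ⟨i, hi, ?_⟩
  rw [← hxq, frobPow_apply, pow_one, ← hσ, ← hiσ, AlgEquiv.coe_pow,
    FiniteField.coe_frobeniusAlgEquivOfAlgebraic_iterate, hF, ← pow_mul, ← pow_mul, ← pow_succ]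

include hF hmon in
/-- The determinant of a matrix annihilated by an irreducible polynomial. -/
theorem det_eq_root_pow {m : ℕ} (A : Matrix (Fin m) (Fin m) F) (hA : aeval A h = 0) :
    h.natDegree ∣ m ∧
      algebraMap F (AdjoinRoot h) A.det = AdjoinRoot.root h ^ evenSum q m := by
  haveI := finite_adjoinRoot' hmon
  obtain ⟨j, hj, hchar⟩ := Spec.charpoly_eq_pow A Fact.out hmon hA
  refine ⟨Dvd.intro_left j hj, ?_⟩
  let pb := AdjoinRoot.powerBasis' hmon
  have hmin : minpoly F (AdjoinRoot.root h) = h := by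
    rw [AdjoinRoot.minpoly_root (Fact.out : Irreducible h).ne_zero, hmon.leadingCoeff, inv_one,
      C_1, mul_one]
  have hN : Algebra.norm F (AdjoinRoot.root h) = (-1) ^ h.natDegree * h.coeff 0 := by
    have := Algebra.PowerBasis.norm_gen_eq_coeff_zero_minpoly pb
    rwa [AdjoinRoot.powerBasis'_gen, AdjoinRoot.powerBasis'_dim, hmin] at this
  have hdet : A.det = Algebra.norm F (AdjoinRoot.root h) ^ j := by
    rw [Matrix.det_eq_sign_charpoly_coeff, hchar, Fintype.card_fin, hN, mul_pow, ← pow_mul,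
      mul_comm h.natDegree, hj, coeff_zero_eq_eval_zero, eval_pow, coeff_zero_eq_eval_zero]
  have hbase : algebraMap F (AdjoinRoot h) (Algebra.norm F (AdjoinRoot.root h)) =
      AdjoinRoot.root h ^ evenSum q h.natDegree := by
    rw [FiniteField.algebraMap_norm_eq_pow_sum, finrank_adjoinRoot hmon, Nat.card_eq_fintype_card,
      hF, evenSum]
  rw [hdet, map_pow]
  subst hj
  clear hchar hdet hA A
  induction j with
  | zero => simp [evenSum]
  | succ j ih =>
    rw [pow_succ, ih, Nat.succ_mul, evenSum, evenSum, sum_range_add, pow_add]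
    congr 1
    simp only [pow_add, ← mul_sum]
    rw [mul_comm, pow_mul, ← evenSum, ← hbase, ← map_pow, ← hF, FiniteField.pow_card_pow]

include hF hmon in
/-- The purely primary case. -/
theorem root_pow_torusD {n : ℕ} (A : Matrix (Fin n) (Fin n) F) (hA : aeval A h = 0)
    (hdet : A.det = 1) (N : ℕ) (hN : 0 < N) (hθN : AdjoinRoot.root h ^ N = 1)
    (hconj : aeval (AdjoinRoot.root h ^ (N - 1)) (h.map (conjHom hF)) = 0) :
    AdjoinRoot.root h ^ torusD n q = 1 := by
  obtain ⟨hdn, hdet'⟩ := det_eq_root_pow hF hmon A hA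
  rw [hdet, map_one] at hdet'
  have hq2 := two_le_q hF
  have hd : 0 < h.natDegree := (Fact.out : Irreducible h).natDegree_pos
  obtain ⟨i, hi, hk⟩ := exists_odd_pow_of_conj_root hF hmon _ hconj
  set θ := AdjoinRoot.root h
  set d := h.natDegree with hdd
  have hθ0 : θ ≠ 0 := by
    intro h0
    rw [h0, zero_pow hN.ne'] at hθN
    exact zero_ne_one hθN
  have hk' : θ ^ q ^ (2 * i + 1) * θ = 1 := by
    rw [← hk, ← pow_succ, Nat.sub_add_cancel hN, hθN]
  have hper := root_pow_period hF hmon
  have hk2 : θ ^ (q ^ 2) ^ (2 * i + 1) = θ := by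
    rw [← pow_mul, two_mul, pow_add, pow_mul, eq_inv_of_mul_eq_one_left hk', inv_pow,
      eq_inv_of_mul_eq_one_left hk', inv_inv]
  have hkd : 2 * i + 1 = d := by
    obtain ⟨t, ht⟩ := natDegree_dvd_of_root_pow hF hmon hk2
    rw [← hdd] at ht
    rcases t with _ | _ | t
    · omega
    · omega
    · have : 2 * d ≤ d * (t + 1 + 1) := by rw [mul_comm 2 d]; exact Nat.mul_le_mul_left d (by omega)
      omega
  rw [hkd] at hk'
  have hdodd : Odd d := ⟨i, hkd.symm⟩
  obtain ⟨j, hj⟩ := hdn
  have hD := torusD_mul (n := n) (q := q) (by omega)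
  rcases Nat.even_or_odd n with hev | hodd
  · rw [if_neg (Nat.not_odd_iff_even.2 hev)] at hD
    have hjev : Even j := by
      rw [hj, Nat.even_mul] at hev
      exact hev.resolve_left (Nat.not_even_iff_odd.2 hdodd)
    obtain ⟨j', rfl⟩ := hjev
    set l := d * j'
    have hn2 : n = l + l := by rw [hj, ← mul_add]
    subst hn2
    have hl : θ ^ (q ^ 2) ^ l = θ := by rw [pow_mul]; exact pow_pow_eq_self hper j'
    have h2 : θ ^ (2 * evenSum q l) = 1 := by
      rw [evenSum, sum_range_add, pow_add] at hdet'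
      simp only [pow_add, ← mul_sum] at hdet'
      rw [pow_mul, hl] at hdet'
      rw [two_mul, pow_add]
      exact hdet'.symm
    have h3 : θ ^ (evenSum q l * (q ^ 2 - 1)) = 1 := by
      have h' := hl
      rw [← evenSum_mul (by omega : 1 ≤ q) l, pow_succ] at h'
      exact (mul_left_eq_self₀.1 h').resolve_right hθ0
    rw [mul_comm 2] at h2
    have hg := pow_gcd_eq_one.2 ⟨h2, h3⟩
    rw [Nat.gcd_mul_left] at hg
    have hgq : Nat.gcd 2 (q ^ 2 - 1) ∣ q - 1 := by
      rcases Nat.even_or_odd q with hq | hq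
      · have : Nat.gcd 2 (q ^ 2 - 1) = 1 := by
          rw [← Nat.coprime_iff_gcd_eq_one, Nat.coprime_two_left]
          exact Nat.Even.sub_odd (Nat.one_le_pow _ _ (by omega)) (hq.pow_of_ne_zero two_ne_zero) odd_one
        rw [this]; exact one_dvd _
      · exact (Nat.gcd_dvd_left _ _).trans (even_iff_two_dvd.1 (Nat.Odd.sub_odd hq odd_one))
    have hDl : torusD (l + l) q = evenSum q l * (q - 1) := by
      apply Nat.eq_of_mul_eq_mul_right (show 0 < q + 1 by omega)
      have h4 := evenSum_mul (by omega : 1 ≤ q) l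
      rw [← pow_mul, two_mul] at h4
      rw [show q ^ 2 - 1 = (q - 1) * (q + 1) by
        rw [mul_comm]; simpa using Nat.sq_sub_sq q 1, ← mul_assoc] at h4
      rw [hD]; omega
    rw [hDl]
    obtain ⟨t, ht⟩ := hgq
    rw [ht, ← mul_assoc, pow_mul, hg, one_pow]
  · rw [if_pos hodd] at hD
    have hjodd : Odd j := (Nat.odd_mul.1 (hj ▸ hodd)).2
    obtain ⟨t, rfl⟩ := hjodd
    have hn : θ ^ q ^ n * θ = 1 := by
      rw [hj, show d * (2 * t + 1) = 2 * (d * t) + d by ring, pow_add, pow_mul, pow_mul q,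
        pow_mul (q ^ 2), pow_pow_eq_self hper t, hk']
    set M := ∑ i ∈ range n, q ^ i with hMdef
    have hM : M * (q - 1) + 1 = q ^ n := by
      have h' := geom_sum_mul_add (q - 1) n
      rwa [Nat.sub_add_cancel (by omega : 1 ≤ q)] at h'
    have hMco : Nat.Coprime (q + 1) M := by
      obtain ⟨s, hs⟩ := hodd
      have hmod : ∀ s : ℕ, ∃ u, ∑ i ∈ range (2 * s + 1), q ^ i = 1 + (q + 1) * u := by
        intro s
        induction s with
        | zero => exact ⟨0, by simp⟩
        | succ s ih =>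
          obtain ⟨u, hu⟩ := ih
          refine ⟨u + q ^ (2 * s + 1), ?_⟩
          rw [show 2 * (s + 1) + 1 = 2 * s + 1 + 1 + 1 by ring, sum_range_succ, sum_range_succ, hu,
            pow_succ q (2 * s + 1)]
          ring
      obtain ⟨u, hu⟩ := hmod s
      rw [hMdef, hs, hu, Nat.coprime_add_mul_left_right]
      exact Nat.coprime_one_right _
    have hTn : evenSum q n = torusD n q * M := by
      have h4 := evenSum_mul (by omega : 1 ≤ q) n
      have hsq : (q ^ 2) ^ n = q ^ n * q ^ n := by rw [← pow_mul, two_mul, pow_add]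
      have h5 : q ^ n * q ^ n = torusD n q * (q + 1) * (M * (q - 1)) + 1 := by
        rw [hD, ← hM]; ring_nf
      have hpos : 0 < q ^ 2 - 1 := by
        have : 2 ≤ q ^ 2 := hq2.trans (Nat.le_self_pow two_ne_zero q)
        omega
      apply Nat.eq_of_mul_eq_mul_right hpos
      have hf : q ^ 2 - 1 = (q + 1) * (q - 1) := by simpa using Nat.sq_sub_sq q 1
      have h6 : torusD n q * M * (q ^ 2 - 1) = torusD n q * (q + 1) * (M * (q - 1)) := by
        rw [hf]; ring
      omega
    have h7 : θ ^ (torusD n q * (q + 1)) = 1 := by rw [hD, pow_succ]; exact hn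
    rw [hTn] at hdet'
    have hg := pow_gcd_eq_one.2 ⟨h7, hdet'.symm⟩
    rwa [Nat.gcd_mul_left, hMco, mul_one] at hg

include hF hmon in
/-- From the torus order to the scalar. -/
theorem exists_scalar_of_root_pow {n : ℕ} (hθ : AdjoinRoot.root h ^ torusD n q = 1) :
    ∃ c : F, c ^ q * c = 1 ∧
      h ∣ X ^ (torusD n q / Nat.gcd (torusD n q) (q + 1)) - C c := by
  classical
  haveI := finite_adjoinRoot' hmon
  set D := torusD n q
  set D' := D / Nat.gcd D (q + 1) with hD'
  have hdvd : D ∣ D' * (q + 1) := by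
    refine ⟨(q + 1) / Nat.gcd D (q + 1), ?_⟩
    rw [hD', ← Nat.mul_div_assoc _ (Nat.gcd_dvd_right _ _),
      Nat.div_mul_right_comm (Nat.gcd_dvd_left _ _)]
  have h1 : (AdjoinRoot.root h ^ D') ^ (q + 1) = 1 := by
    obtain ⟨t, ht⟩ := hdvd
    rw [← pow_mul, ht, pow_mul, hθ, one_pow]
  have hfix : (AdjoinRoot.root h ^ D') ^ Fintype.card F = AdjoinRoot.root h ^ D' := by
    obtain ⟨t, ht⟩ : ∃ t, q ^ 2 = (q + 1) * t + 1 := ⟨q - 1, by
      have : q ^ 2 - 1 = (q + 1) * (q - 1) := by simpa using Nat.sq_sub_sq q 1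
      have : 1 ≤ q ^ 2 := Nat.one_le_pow _ _ (by have := two_le_q hF; omega)
      omega⟩
    rw [hF, ht, pow_succ, pow_mul, h1, one_pow, one_mul]
  obtain ⟨c, hc⟩ : ∃ c : F, algebraMap F (AdjoinRoot h) c = AdjoinRoot.root h ^ D' := by
    have hz : IsRoot ((X ^ Fintype.card F - X : F[X]).map (algebraMap F (AdjoinRoot h)))
        (AdjoinRoot.root h ^ D') := by
      simp [sub_eq_zero, hfix]
    have hne : ((X ^ Fintype.card F - X : F[X]).map (algebraMap F (AdjoinRoot h))) ≠ 0 := by
      rw [Polynomial.map_ne_zero_iff (algebraMap F (AdjoinRoot h)).injective]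
      exact FiniteField.X_pow_card_sub_X_ne_zero F Fintype.one_lt_card
    have hroots : ((X ^ Fintype.card F - X : F[X]).map (algebraMap F (AdjoinRoot h))).roots =
        (Finset.univ.val : Multiset F).map (algebraMap F (AdjoinRoot h)) := by
      refine (Polynomial.roots_map_of_injective_of_card_eq_natDegree
        (algebraMap F (AdjoinRoot h)).injective ?_).symm.trans (by
          rw [FiniteField.roots_X_pow_card_sub_X])
      rw [FiniteField.roots_X_pow_card_sub_X, FiniteField.X_pow_card_sub_X_natDegree_eq F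
        Fintype.one_lt_card]
      simp
    have := (mem_roots hne).2 hz
    rw [hroots] at this
    obtain ⟨c, _, hc⟩ := Multiset.mem_map.1 this
    exact ⟨c, hc⟩
  refine ⟨c, ?_, ?_⟩
  · apply (algebraMap F (AdjoinRoot h)).injective
    rw [map_mul, map_pow, map_one, hc, ← pow_succ, h1]
  · rw [← AdjoinRoot.mk_eq_zero, map_sub, map_pow, AdjoinRoot.mk_X, AdjoinRoot.mk_C,
      ← AdjoinRoot.algebraMap_eq, hc, sub_self]

end Cfsg.Agent.Spec.Unitary
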